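import Cfsg.Agent.Lib.ChevBN.Fast2
import Cfsg.Agent.Lib.ChevBN.FastData

/-! The further table facts for the seven data. -/

set_option autoImplicit false

namespace Cfsg.Agent.Lib.ChevBN.FastData

open Cfsg.Lie Cfsg.Agent.Lib.ChevTri.Datum Cfsg.Agent.Lib.ChevBN.Table Cfsg.Agent.Lib.ChevBN.Fast

set_option maxRecDepth 100000

theorem k1_G2 : chkKeep tabG2 chevG2 = true := by decide +kernel
theorem k2_G2 : chkW0 tabG2 chevG2 [1, 0, 1, 0, 1, 0] = true := by decide +kernel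
theorem k3_G2 : chkAdj tabG2 chevG2 = true := by decide +kernel
theorem k4_G2 : chkConn tabG2 chevG2 [0, 1] = true := by decide +kernel

theorem tbl2_chevG2 : Tbl2 chevG2 := tbl2_of_fast tbl_chevG2 hC_G2 hR_G2 hW_G2 k1_G2 k2_G2 k3_G2 k4_G2

theorem k1_B2 : chkKeep tabB2 chevB2 = true := by decide +kernel
theorem k2_B2 : chkW0 tabB2 chevB2 [1, 0, 1, 0] = true := by decide +kernel
theorem k3_B2 : chkAdj tabB2 chevB2 = true := by decide +kernel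
theorem k4_B2 : chkConn tabB2 chevB2 [0, 1] = true := by decide +kernel

theorem tbl2_chevB2 : Tbl2 chevB2 := tbl2_of_fast tbl_chevB2 hC_B2 hR_B2 hW_B2 k1_B2 k2_B2 k3_B2 k4_B2

theorem k1_D4 : chkKeep tabD4 chevD4 = true := by decide +kernel
theorem k2_D4 : chkW0 tabD4 chevD4 [3, 1, 2, 0, 1, 3, 0, 1, 2, 0, 1, 0] = true := by decide +kernel
theorem k3_D4 : chkAdj tabD4 chevD4 = true := by decide +kernel
theorem k4_D4 : chkConn tabD4 chevD4 [0, 1, 2, 3] = true := by decide +kernel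

theorem tbl2_chevD4 : Tbl2 chevD4 := tbl2_of_fast tbl_chevD4 hC_D4 hR_D4 hW_D4 k1_D4 k2_D4 k3_D4 k4_D4

theorem k1_F4 : chkKeep tabF4 chevF4 = true := by decide +kernel
theorem k2_F4 : chkW0 tabF4 chevF4 [3, 2, 1, 2, 0, 1, 2, 3, 2, 1, 2, 0, 1, 2, 3, 2, 1, 2, 0, 1, 2, 0, 1, 0] = true := by decide +kernel
theorem k3_F4 : chkAdj tabF4 chevF4 = true := by decide +kernel
theorem k4_F4 : chkConn tabF4 chevF4 [0, 1, 2, 3] = true := by decide +kernel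

theorem tbl2_chevF4 : Tbl2 chevF4 := tbl2_of_fast tbl_chevF4 hC_F4 hR_F4 hW_F4 k1_F4 k2_F4 k3_F4 k4_F4

theorem k1_E6 : chkKeep tabE6 chevE6 = true := by decide +kernel
theorem k2_E6 : chkW0 tabE6 chevE6 [0, 2, 3, 4, 5, 1, 3, 4, 2, 3, 0, 2, 1, 3, 4, 5, 1, 3, 4, 2, 3, 0, 2, 1, 3, 4, 2, 3, 0, 2, 1, 3, 0, 2, 1, 0] = true := by decide +kernel
theorem k3_E6 : chkAdj tabE6 chevE6 = true := by decide +kernel
theorem k4_E6 : chkConn tabE6 chevE6 [0, 2, 3, 1, 4, 5] = true := by decide +kernel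

theorem tbl2_chevE6 : Tbl2 chevE6 := tbl2_of_fast tbl_chevE6 hC_E6 hR_E6 hW_E6 k1_E6 k2_E6 k3_E6 k4_E6

theorem k1_E7 : chkKeep tabE7 chevE7 = true := by decide +kernel
theorem k2_E7 : chkW0 tabE7 chevE7 [6, 5, 4, 3, 2, 1, 3, 4, 5, 6, 0, 2, 3, 4, 5, 1, 3, 4, 2, 3, 0, 2, 1, 3, 4, 5, 6, 0, 2, 3, 4, 5, 1, 3, 4, 2, 3, 0, 2, 1, 3, 4, 5, 1, 3, 4, 2, 3, 0, 2, 1, 3, 4, 2, 3, 0, 2, 1, 3, 0, 2, 1, 0] = true := by decide +kernel
theorem k3_E7 : chkAdj tabE7 chevE7 = true := by decide +kernel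
theorem k4_E7 : chkConn tabE7 chevE7 [0, 2, 3, 1, 4, 5, 6] = true := by decide +kernel

theorem tbl2_chevE7 : Tbl2 chevE7 := tbl2_of_fast tbl_chevE7 hC_E7 hR_E7 hW_E7 k1_E7 k2_E7 k3_E7 k4_E7

theorem k1_E8 : chkKeep tabE8 chevE8 = true := by decide +kernel
theorem k2_E8 : chkW0 tabE8 chevE8 [7, 6, 5, 4, 3, 2, 1, 3, 4, 5, 6, 0, 2, 3, 4, 5, 1, 3, 4, 2, 3, 0, 2, 1, 3, 4, 5, 6, 7, 6, 5, 4, 3, 2, 1, 3, 4, 5, 6, 0, 2, 3, 4, 5, 1, 3, 4, 2, 3, 0, 2, 1, 3, 4, 5, 6, 7, 6, 5, 4, 3, 2, 1, 3, 4, 5, 6, 0, 2, 3, 4, 5, 1, 3, 4, 2, 3, 0, 2, 1, 3, 4, 5, 6, 0, 2, 3, 4, 5, 1, 3, 4, 2, 3, 0, 2, 1, 3, 4, 5, 1, 3, 4, 2, 3, 0, 2, 1, 3, 4, 2, 3, 0, 2, 1, 3, 0, 2, 1, 0] = true := by decide +kernel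
theorem k3_E8 : chkAdj tabE8 chevE8 = true := by decide +kernel
theorem k4_E8 : chkConn tabE8 chevE8 [0, 2, 3, 1, 4, 5, 6, 7] = true := by decide +kernel

theorem tbl2_chevE8 : Tbl2 chevE8 := tbl2_of_fast tbl_chevE8 hC_E8 hR_E8 hW_E8 k1_E8 k2_E8 k3_E8 k4_E8

/-- The further table facts for the seven data. -/
theorem tbl2_of_mem {D : ChevalleyDatum}
    (hD : D ∈ [chevG2, chevB2, chevD4, chevF4, chevE6, chevE7, chevE8]) : Tbl2 D := by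
  simp only [List.mem_cons, List.not_mem_nil, or_false] at hD
  rcases hD with rfl | rfl | rfl | rfl | rfl | rfl | rfl
  · exact tbl2_chevG2
  · exact tbl2_chevB2
  · exact tbl2_chevD4
  · exact tbl2_chevF4
  · exact tbl2_chevE6
  · exact tbl2_chevE7
  · exact tbl2_chevE8

end Cfsg.Agent.Lib.ChevBN.FastData
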