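import Cfsg.Agent.Lib.ChevBN.InvRed

/-!
The tree of normal forms of the involutions for type F4 in characteristic two.
-/

set_option autoImplicit false

namespace Cfsg.Agent.Lib.ChevBN.InvNFF4

open Cfsg.Lie Cfsg.Agent.Lib.ChevBN.InvNF Cfsg.Agent.Lib.ChevBN.InvRed

/-- The odd terms. -/
def tab : List (List (List (ℕ × ℕ × ℕ))) :=
  [[],
  [],
  [],
  [],
  [],
  [],
  [],
  [],
  [],
  [],
  [],
  [],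
  [],
  [],
  [],
  [],
  [],
  [],
  [],
  [],
  [],
  [],
  [],
  [],
  [[], [], [], [], [], [], [], [], [], [], [], [], [], [], [], [], [], [], [], [], [], [], [], [], [], [(26, 1, 1)], [], [], [(29, 1, 1), (32, 1, 2)], [], [(31, 1, 1)], [], [], [], [], [(36, 1, 1), (43, 1, 2)], [], [(38, 1, 1), (45, 1, 2)], [], [], [], [(42, 1, 1)], [], [], [], [], [(47, 1, 1)]],
  [[], [], [], [], [], [], [], [], [], [], [], [], [], [], [], [], [], [], [], [], [], [], [], [], [(26, 1, 1)], [], [], [(28, 1, 1), (30, 1, 2)], [], [], [], [(32, 1, 1)], [], [], [(35, 1, 1), (41, 1, 2)], [], [], [], [(39, 1, 1), (47, 1, 2)], [], [], [], [(43, 1, 1)], [], [], [(46, 1, 1)]],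
  [[], [], [], [], [], [], [], [], [], [], [], [], [], [], [], [], [], [], [], [], [], [], [], [], [], [], [], [(29, 1, 1), (31, 1, 2)], [], [], [(32, 1, 1)], [], [], [], [(36, 1, 1), (42, 1, 2)], [], [], [(39, 1, 1), (46, 1, 2)], [], [], [], [(43, 1, 1)], [], [], [], [(47, 1, 1)]],
  [[], [], [], [], [], [], [], [], [], [], [], [], [], [], [], [], [], [], [], [], [], [], [], [], [], [(28, 1, 1), (30, 2, 1)], [(29, 1, 1), (31, 2, 1)], [], [], [], [], [], [], [(34, 1, 1)], [], [(37, 1, 1)], [(38, 1, 1)], [], [], [(40, 1, 1)], [], [], [], [(44, 1, 1), (45, 2, 1)]],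
  [[], [], [], [], [], [], [], [], [], [], [], [], [], [], [], [], [], [], [], [], [], [], [], [], [(29, 1, 1), (32, 2, 1)], [], [], [], [], [], [], [], [], [(35, 1, 1)], [(37, 1, 1)], [], [(39, 1, 1)], [], [(40, 1, 1)], [], [], [], [(44, 1, 1), (46, 2, 1)]],
  [[], [], [], [], [], [], [], [], [], [], [], [], [], [], [], [], [], [], [], [], [], [], [], [], [], [], [], [], [], [], [], [], [], [(36, 1, 1)], [(38, 1, 1)], [(39, 1, 1)], [], [(40, 1, 1)], [], [], [], [(44, 1, 1), (47, 2, 1)]],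
  [[], [], [], [], [], [], [], [], [], [], [], [], [], [], [], [], [], [], [], [], [], [], [], [], [(31, 1, 1)], [], [(32, 1, 1)], [], [], [], [], [], [], [(37, 1, 1), (41, 1, 2)], [], [], [(40, 1, 1), (47, 1, 2)], [], [], [], [], [], [(45, 1, 1)], [(46, 1, 1)]],
  [[], [], [], [], [], [], [], [], [], [], [], [], [], [], [], [], [], [], [], [], [], [], [], [], [], [(32, 1, 1)], [], [], [], [], [], [], [], [(38, 1, 1), (42, 1, 2)], [], [(40, 1, 1), (46, 1, 2)], [], [], [], [], [], [(45, 1, 1)], [], [(47, 1, 1)]],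
  [[], [], [], [], [], [], [], [], [], [], [], [], [], [], [], [], [], [], [], [], [], [], [], [], [], [], [], [], [], [], [], [], [], [(39, 1, 1), (43, 1, 2)], [(40, 1, 1), (45, 1, 2)], [], [], [], [], [], [], [(46, 1, 1)], [(47, 1, 1)]],
  [[], [], [], [], [], [], [], [], [], [], [], [], [], [], [], [], [], [], [], [], [], [], [], [], [], [], [], [(34, 1, 1)], [(35, 1, 1)], [(36, 1, 1)], [(37, 1, 1), (41, 2, 1)], [(38, 1, 1), (42, 2, 1)], [(39, 1, 1), (43, 2, 1)], [], [], [], [], [], [], [], [(44, 1, 1)]],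
  [[], [], [], [], [], [], [], [], [], [], [], [], [], [], [], [], [], [], [], [], [], [], [], [], [], [(35, 1, 1), (41, 2, 1)], [(36, 1, 1), (42, 2, 1)], [], [(37, 1, 1)], [(38, 1, 1)], [], [], [(40, 1, 1), (45, 2, 1)], [], [], [], [], [], [], [(44, 1, 1)]],
  [[], [], [], [], [], [], [], [], [], [], [], [], [], [], [], [], [], [], [], [], [], [], [], [], [(36, 1, 1), (43, 2, 1)], [], [], [(37, 1, 1)], [], [(39, 1, 1)], [], [(40, 1, 1), (46, 2, 1)], [], [], [], [], [], [], [(44, 1, 1)]],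
  [[], [], [], [], [], [], [], [], [], [], [], [], [], [], [], [], [], [], [], [], [], [], [], [], [], [], [], [(38, 1, 1)], [(39, 1, 1)], [], [(40, 1, 1), (47, 2, 1)], [], [], [], [], [], [], [(44, 1, 1)]],
  [[], [], [], [], [], [], [], [], [], [], [], [], [], [], [], [], [], [], [], [], [], [], [], [], [(38, 1, 1), (45, 2, 1)], [], [(39, 1, 1), (46, 2, 1)], [], [], [(40, 1, 1)], [], [], [], [], [], [], [(44, 1, 1)]],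
  [[], [], [], [], [], [], [], [], [], [], [], [], [], [], [], [], [], [], [], [], [], [], [], [], [], [(39, 1, 1), (47, 2, 1)], [], [], [(40, 1, 1)], [], [], [], [], [], [], [(44, 1, 1)]],
  [[], [], [], [], [], [], [], [], [], [], [], [], [], [], [], [], [], [], [], [], [], [], [], [], [], [], [], [(40, 1, 1)], [], [], [], [], [], [], [(44, 1, 1)]],
  [[], [], [], [], [], [], [], [], [], [], [], [], [], [], [], [], [], [], [], [], [], [], [], [], [], [], [], [], [], [], [], [], [], [(44, 1, 1)]],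
  [[], [], [], [], [], [], [], [], [], [], [], [], [], [], [], [], [], [], [], [], [], [], [], [], [(42, 1, 1)], [], [(43, 1, 1)], [], [], [(44, 1, 1), (47, 1, 2)], [], [(45, 1, 1)], [(46, 1, 1)]],
  [[], [], [], [], [], [], [], [], [], [], [], [], [], [], [], [], [], [], [], [], [], [], [], [], [], [(43, 1, 1)], [], [], [(44, 1, 1), (46, 1, 2)], [], [(45, 1, 1)], [], [(47, 1, 1)]],
  [[], [], [], [], [], [], [], [], [], [], [], [], [], [], [], [], [], [], [], [], [], [], [], [], [], [], [], [(44, 1, 1), (45, 1, 2)], [], [], [(46, 1, 1)], [(47, 1, 1)]],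
  [],
  [[], [], [], [], [], [], [], [], [], [], [], [], [], [], [], [], [], [], [], [], [], [], [], [], [], [(46, 1, 1)], [(47, 1, 1)]],
  [[], [], [], [], [], [], [], [], [], [], [], [], [], [], [], [], [], [], [], [], [], [], [], [], [(47, 1, 1)]],
  []]

/-- The odd terms as a function. -/
def tt : TT := fun s r => (tab.getD s []).getD r []

/-- The positive roots. -/
def posL : List ℕ := [24, 25, 26, 27, 28, 29, 30, 31, 32, 33, 34, 35, 36, 37, 38, 39, 40, 41, 42, 43, 44, 45, 46, 47]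

/-- The nodes. -/
def nodesL : List NodeD :=
  [⟨[], [24, 25, 26, 27, 28, 29, 30, 31, 32, 33, 34, 35, 36, 37, 38, 39, 40, 41, 42, 43, 44, 45, 46, 47], [⟨24, [⟨26, 25, 1, 1⟩, ⟨29, 28, 1, 1⟩, ⟨31, 30, 1, 1⟩, ⟨36, 35, 1, 1⟩, ⟨38, 37, 1, 1⟩, ⟨42, 41, 1, 1⟩, ⟨47, 46, 1, 1⟩], [⟨25, [25, 27, 28, 30, 32, 33, 34, 35, 37, 39, 40, 41, 43, 44, 45, 46], 26, 1, 1⟩, ⟨28, [27, 28, 30, 32, 33, 34, 35, 37, 39, 40, 41, 43, 44, 45, 46], 29, 1, 1⟩, ⟨30, [27, 30, 32, 33, 34, 35, 37, 39, 40, 41, 43, 44, 45, 46], 31, 1, 1⟩, ⟨35, [27, 32, 33, 34, 35, 37, 39, 40, 41, 43, 44, 45, 46], 36, 1, 1⟩, ⟨37, [27, 32, 33, 34, 37, 39, 40, 41, 43, 44, 45, 46], 38, 1, 1⟩, ⟨41, [27, 32, 33, 34, 39, 40, 41, 43, 44, 45, 46], 42, 1, 1⟩, ⟨46, [27, 32, 33, 34, 39, 40, 43, 44, 45, 46], 47, 1, 1⟩], 1⟩, ⟨25, [⟨26, 24, 1, 1⟩, ⟨28, 27, 1, 1⟩,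 ⟨32, 31, 1, 1⟩, ⟨35, 34, 1, 1⟩, ⟨39, 38, 1, 1⟩, ⟨43, 42, 1, 1⟩, ⟨46, 45, 1, 1⟩], [⟨27, [27, 29, 30, 31, 33, 34, 36, 37, 38, 40, 41, 42, 44, 45, 47], 28, 1, 1⟩, ⟨31, [29, 30, 31, 33, 34, 36, 37, 38, 40, 41, 42, 44, 45, 47], 32, 1, 1⟩, ⟨34, [29, 30, 33, 34, 36, 37, 38, 40, 41, 42, 44, 45, 47], 35, 1, 1⟩, ⟨38, [29, 30, 33, 36, 37, 38, 40, 41, 42, 44, 45, 47], 39, 1, 1⟩, ⟨42, [29, 30, 33, 36, 37, 40, 41, 42, 44, 45, 47], 43, 1, 1⟩, ⟨45, [29, 30, 33, 36, 37, 40, 41, 44, 45, 47], 46, 1, 1⟩], 33⟩, ⟨26, [⟨29, 27, 1, 1⟩, ⟨32, 30, 1, 1⟩, ⟨36, 34, 1, 1⟩, ⟨39, 37, 1, 1⟩, ⟨43, 41, 1, 1⟩, ⟨47, 45, 1, 1⟩], [⟨27, [27, 28, 30, 31, 33, 34, 35, 37, 38, 40, 41, 42, 44, 45, 46], 29, 1, 1⟩, ⟨30, [28, 30, 31, 33, 34, 35, 37, 38, 40, 41, 42, 44, 45, 46], 32, 1, 1⟩, ⟨34, [28, 31, 33, 34, 35, 37, 38, 40, 41, 42, 44, 45,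 46], 36, 1, 1⟩, ⟨37, [28, 31, 33, 35, 37, 38, 40, 41, 42, 44, 45, 46], 39, 1, 1⟩, ⟨41, [28, 31, 33, 35, 38, 40, 41, 42, 44, 45, 46], 43, 1, 1⟩, ⟨45, [28, 31, 33, 35, 38, 40, 42, 44, 45, 46], 47, 1, 1⟩], 65⟩, ⟨27, [⟨28, 25, 1, 1⟩, ⟨29, 26, 1, 1⟩, ⟨34, 33, 1, 1⟩, ⟨37, 35, 1, 1⟩, ⟨38, 36, 1, 1⟩, ⟨40, 39, 1, 1⟩, ⟨44, 43, 1, 1⟩], [⟨33, [30, 31, 32, 33, 35, 36, 37, 38, 39, 40, 41, 42, 43, 44, 45, 46, 47], 34, 1, 1⟩, ⟨35, [30, 31, 32, 35, 36, 39, 40, 41, 42, 43, 45, 46, 47], 37, 1, 1⟩, ⟨36, [30, 31, 32, 36, 39, 40, 41, 42, 43, 45, 46, 47], 38, 1, 1⟩, ⟨39, [30, 31, 32, 39, 41, 42, 43, 45, 46, 47], 40, 1, 1⟩, ⟨43, [30, 31, 32, 41, 42, 43, 45, 46, 47], 44, 1, 1⟩], 97⟩, ⟨28, [⟨29, 24, 1, 1⟩, ⟨35, 33, 1, 1⟩, ⟨37, 34, 1, 1⟩, ⟨39, 36, 1, 1⟩, ⟨40, 38, 1, 1⟩, ⟨44, 42, 1, 1⟩], [⟨33, [30, 31, 32, 33, 34, 36, 37,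 38, 39, 40, 41, 42, 43, 44, 45, 46, 47], 35, 1, 1⟩, ⟨34, [30, 31, 32, 34, 36, 38, 40, 41, 42, 43, 45, 46, 47], 37, 1, 1⟩, ⟨36, [30, 31, 32, 36, 38, 40, 41, 42, 43, 45, 46, 47], 39, 1, 1⟩, ⟨38, [30, 31, 32, 38, 41, 42, 43, 45, 46, 47], 40, 1, 1⟩, ⟨42, [30, 31, 32, 41, 42, 43, 45, 46, 47], 44, 1, 1⟩], 124⟩, ⟨29, [⟨36, 33, 1, 1⟩, ⟨38, 34, 1, 1⟩, ⟨39, 35, 1, 1⟩, ⟨40, 37, 1, 1⟩, ⟨44, 41, 1, 1⟩], [⟨33, [30, 31, 32, 33, 34, 35, 37, 38, 39, 40, 41, 42, 43, 44, 45, 46, 47], 36, 1, 1⟩, ⟨34, [30, 31, 32, 34, 35, 37, 40, 41, 42, 43, 45, 46, 47], 38, 1, 1⟩, ⟨35, [30, 31, 32, 35, 37, 40, 41, 42, 43, 45, 46, 47], 39, 1, 1⟩, ⟨37, [30, 31, 32, 37, 41, 42, 43, 45, 46, 47], 40, 1, 1⟩, ⟨41, [30, 31, 32, 41, 42, 43, 45, 46, 47], 44, 1, 1⟩], 148⟩, ⟨30, [⟨31, 24, 1, 1⟩, ⟨32, 26, 1, 1⟩, ⟨37, 33, 1, 1⟩, ⟨40, 36, 1, 1⟩,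 ⟨45, 42, 1, 1⟩, ⟨46, 43, 1, 1⟩], [⟨33, [33, 34, 35, 36, 38, 39, 41, 42, 43, 44, 47], 37, 1, 1⟩, ⟨36, [34, 35, 36, 38, 39, 41, 42, 43, 44, 47], 40, 1, 1⟩, ⟨42, [34, 35, 38, 39, 41, 42, 43, 44, 47], 45, 1, 1⟩, ⟨43, [34, 35, 38, 39, 41, 43, 44, 47], 46, 1, 1⟩], 169⟩, ⟨31, [⟨32, 25, 1, 1⟩, ⟨38, 33, 1, 1⟩, ⟨40, 35, 1, 1⟩, ⟨45, 41, 1, 1⟩, ⟨47, 43, 1, 1⟩], [⟨33, [33, 34, 35, 36, 37, 39, 41, 42, 43, 44, 46], 38, 1, 1⟩, ⟨35, [34, 35, 36, 37, 39, 41, 42, 43, 44, 46], 40, 1, 1⟩, ⟨41, [34, 36, 37, 39, 41, 42, 43, 44, 46], 45, 1, 1⟩, ⟨43, [34, 36, 37, 39, 42, 43, 44, 46], 47, 1, 1⟩], 191⟩, ⟨32, [⟨39, 33, 1, 1⟩, ⟨40, 34, 1, 1⟩, ⟨46, 41, 1, 1⟩, ⟨47, 42, 1, 1⟩], [⟨33, [33, 34, 35, 36, 37, 38, 41, 42, 43, 44, 45], 39, 1, 1⟩, ⟨34, [34, 35, 36, 37, 38, 41, 42, 43, 44, 45], 40, 1, 1⟩, ⟨41, [35, 36, 37, 38, 41, 42,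 43, 44, 45], 46, 1, 1⟩, ⟨42, [35, 36, 37, 38, 42, 43, 44, 45], 47, 1, 1⟩], 213⟩, ⟨33, [⟨34, 27, 1, 1⟩, ⟨35, 28, 1, 1⟩, ⟨36, 29, 1, 1⟩, ⟨37, 30, 1, 1⟩, ⟨38, 31, 1, 1⟩, ⟨39, 32, 1, 1⟩, ⟨44, 40, 1, 1⟩], [⟨40, [40, 41, 42, 43, 45, 46, 47], 44, 1, 1⟩], 235⟩, ⟨34, [⟨35, 25, 1, 1⟩, ⟨36, 26, 1, 1⟩, ⟨37, 28, 1, 1⟩, ⟨38, 29, 1, 1⟩, ⟨40, 32, 1, 1⟩, ⟨44, 39, 1, 1⟩], [⟨39, [39, 41, 42, 43, 45, 46, 47], 44, 1, 1⟩], 254⟩, ⟨35, [⟨36, 24, 1, 1⟩, ⟨37, 27, 1, 1⟩, ⟨39, 29, 1, 1⟩, ⟨40, 31, 1, 1⟩, ⟨44, 38, 1, 1⟩], [⟨38, [38, 41, 42, 43, 45, 46, 47], 44, 1, 1⟩], 273⟩, ⟨36, [⟨38, 27, 1, 1⟩, ⟨39, 28, 1, 1⟩, ⟨40, 30, 1, 1⟩, ⟨44, 37, 1, 1⟩], [⟨37, [37, 41, 42, 43, 45, 46, 47], 44, 1, 1⟩], 289⟩, ⟨37, [⟨38, 24, 1, 1⟩, ⟨39, 26, 1, 1⟩, ⟨40, 29, 1, 1⟩, ⟨44, 36, 1, 1⟩], [], 302⟩, ⟨38, [⟨39, 25, 1, 1⟩, ⟨40, 28, 1, 1⟩, ⟨44, 35,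 1, 1⟩], [], 318⟩, ⟨39, [⟨40, 27, 1, 1⟩, ⟨44, 34, 1, 1⟩], [], 331⟩, ⟨40, [⟨44, 33, 1, 1⟩], [], 341⟩, ⟨41, [⟨42, 24, 1, 1⟩, ⟨43, 26, 1, 1⟩, ⟨44, 29, 1, 1⟩, ⟨45, 31, 1, 1⟩, ⟨46, 32, 1, 1⟩], [], 351⟩, ⟨42, [⟨43, 25, 1, 1⟩, ⟨44, 28, 1, 1⟩, ⟨45, 30, 1, 1⟩, ⟨47, 32, 1, 1⟩], [], 353⟩, ⟨43, [⟨44, 27, 1, 1⟩, ⟨46, 30, 1, 1⟩, ⟨47, 31, 1, 1⟩], [], 355⟩, ⟨44, [], [], 357⟩, ⟨45, [⟨46, 25, 1, 1⟩, ⟨47, 26, 1, 1⟩], [], 361⟩, ⟨46, [⟨47, 24, 1, 1⟩], [], 362⟩, ⟨47, [], [], 363⟩]⟩,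
  ⟨[24], [27, 32, 33, 34, 39, 40, 43, 44, 45], [⟨27, [⟨34, 33, 1, 1⟩, ⟨40, 39, 1, 1⟩, ⟨44, 43, 1, 1⟩], [⟨33, [32, 33, 39, 43, 45], 34, 1, 1⟩, ⟨39, [32, 39, 43, 45], 40, 1, 1⟩, ⟨43, [32, 43, 45], 44, 1, 1⟩], 2⟩, ⟨32, [⟨39, 33, 1, 1⟩, ⟨40, 34, 1, 1⟩], [⟨33, [33, 34, 43, 44, 45], 39, 1, 1⟩, ⟨34, [34, 43, 44, 45], 40, 1, 1⟩], 6⟩, ⟨33, [⟨34, 27, 1, 1⟩, ⟨39, 32, 1, 1⟩, ⟨44, 40, 1, 1⟩], [⟨40, [40, 43, 45], 44, 1, 1⟩], 12⟩, ⟨34, [⟨40, 32, 1, 1⟩, ⟨44, 39, 1, 1⟩], [⟨39, [39, 43, 45], 44, 1, 1⟩], 16⟩, ⟨39, [⟨40, 27, 1, 1⟩, ⟨44, 34, 1, 1⟩], [], 20⟩, ⟨40, [⟨44, 33, 1, 1⟩], [], 24⟩, ⟨43, [⟨44, 27, 1, 1⟩], [], 28⟩, ⟨44, [], [], 30⟩, ⟨45, [], [], 32⟩]⟩,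
  ⟨[24, 27], [32, 45], [⟨32, [], [], 3⟩, ⟨45, [], [], 5⟩]⟩,
  ⟨[24, 27, 32], [45], [⟨45, [], [], 4⟩]⟩,
  ⟨[24, 27, 32, 45], [], []⟩,
  ⟨[24, 27, 45], [], []⟩,
  ⟨[24, 32], [43, 44, 45], [⟨43, [⟨44, 27, 1, 1⟩], [], 7⟩, ⟨44, [], [], 9⟩, ⟨45, [], [], 11⟩]⟩,
  ⟨[24, 32, 43], [45], [⟨45, [], [], 8⟩]⟩,
  ⟨[24, 32, 43, 45], [], []⟩,
  ⟨[24, 32, 44], [45], [⟨45, [], [], 10⟩]⟩,
  ⟨[24, 32, 44, 45], [], []⟩,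
  ⟨[24, 32, 45], [], []⟩,
  ⟨[24, 33], [43, 45], [⟨43, [], [], 13⟩, ⟨45, [], [], 15⟩]⟩,
  ⟨[24, 33, 43], [45], [⟨45, [], [], 14⟩]⟩,
  ⟨[24, 33, 43, 45], [], []⟩,
  ⟨[24, 33, 45], [], []⟩,
  ⟨[24, 34], [43, 45], [⟨43, [], [], 17⟩, ⟨45, [], [], 19⟩]⟩,
  ⟨[24, 34, 43], [45], [⟨45, [], [], 18⟩]⟩,
  ⟨[24, 34, 43, 45], [], []⟩,
  ⟨[24, 34, 45], [], []⟩,
  ⟨[24, 39], [43, 45], [⟨43, [], [], 21⟩, ⟨45, [], [], 23⟩]⟩,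
  ⟨[24, 39, 43], [45], [⟨45, [], [], 22⟩]⟩,
  ⟨[24, 39, 43, 45], [], []⟩,
  ⟨[24, 39, 45], [], []⟩,
  ⟨[24, 40], [43, 45], [⟨43, [], [], 25⟩, ⟨45, [], [], 27⟩]⟩,
  ⟨[24, 40, 43], [45], [⟨45, [], [], 26⟩]⟩,
  ⟨[24, 40, 43, 45], [], []⟩,
  ⟨[24, 40, 45], [], []⟩,
  ⟨[24, 43], [45], [⟨45, [], [], 29⟩]⟩,
  ⟨[24, 43, 45], [], []⟩,
  ⟨[24, 44], [45], [⟨45, [], [], 31⟩]⟩,
  ⟨[24, 44, 45], [], []⟩,
  ⟨[24, 45], [], []⟩,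
  ⟨[25], [29, 30, 33, 36, 37, 40, 41, 44, 47], [⟨29, [⟨36, 33, 1, 1⟩, ⟨40, 37, 1, 1⟩, ⟨44, 41, 1, 1⟩], [⟨33, [30, 33, 37, 41, 47], 36, 1, 1⟩, ⟨37, [30, 37, 41, 47], 40, 1, 1⟩, ⟨41, [30, 41, 47], 44, 1, 1⟩], 34⟩, ⟨30, [⟨37, 33, 1, 1⟩, ⟨40, 36, 1, 1⟩], [⟨33, [33, 36, 41, 44, 47], 37, 1, 1⟩, ⟨36, [36, 41, 44, 47], 40, 1, 1⟩], 38⟩, ⟨33, [⟨36, 29, 1, 1⟩, ⟨37, 30, 1, 1⟩, ⟨44, 40, 1, 1⟩], [⟨40, [40, 41, 47], 44, 1, 1⟩], 44⟩, ⟨36, [⟨40, 30, 1, 1⟩, ⟨44, 37, 1, 1⟩], [⟨37, [37, 41, 47], 44, 1, 1⟩], 48⟩, ⟨37, [⟨40, 29, 1, 1⟩, ⟨44, 36, 1, 1⟩], [], 52⟩, ⟨40, [⟨44, 33, 1, 1⟩], [], 56⟩, ⟨41, [⟨44, 29, 1, 1⟩], [], 60⟩, ⟨44, [], [], 62⟩, ⟨47, [], [], 64⟩]⟩,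
  ⟨[25, 29], [30, 47], [⟨30, [], [], 35⟩, ⟨47, [], [], 37⟩]⟩,
  ⟨[25, 29, 30], [47], [⟨47, [], [], 36⟩]⟩,
  ⟨[25, 29, 30, 47], [], []⟩,
  ⟨[25, 29, 47], [], []⟩,
  ⟨[25, 30], [41, 44, 47], [⟨41, [⟨44, 29, 1, 1⟩], [], 39⟩, ⟨44, [], [], 41⟩, ⟨47, [], [], 43⟩]⟩,
  ⟨[25, 30, 41], [47], [⟨47, [], [], 40⟩]⟩,
  ⟨[25, 30, 41, 47], [], []⟩,
  ⟨[25, 30, 44], [47], [⟨47, [], [], 42⟩]⟩,
  ⟨[25, 30, 44, 47], [], []⟩,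
  ⟨[25, 30, 47], [], []⟩,
  ⟨[25, 33], [41, 47], [⟨41, [], [], 45⟩, ⟨47, [], [], 47⟩]⟩,
  ⟨[25, 33, 41], [47], [⟨47, [], [], 46⟩]⟩,
  ⟨[25, 33, 41, 47], [], []⟩,
  ⟨[25, 33, 47], [], []⟩,
  ⟨[25, 36], [41, 47], [⟨41, [], [], 49⟩, ⟨47, [], [], 51⟩]⟩,
  ⟨[25, 36, 41], [47], [⟨47, [], [], 50⟩]⟩,
  ⟨[25, 36, 41, 47], [], []⟩,
  ⟨[25, 36, 47], [], []⟩,
  ⟨[25, 37], [41, 47], [⟨41, [], [], 53⟩, ⟨47, [], [], 55⟩]⟩,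
  ⟨[25, 37, 41], [47], [⟨47, [], [], 54⟩]⟩,
  ⟨[25, 37, 41, 47], [], []⟩,
  ⟨[25, 37, 47], [], []⟩,
  ⟨[25, 40], [41, 47], [⟨41, [], [], 57⟩, ⟨47, [], [], 59⟩]⟩,
  ⟨[25, 40, 41], [47], [⟨47, [], [], 58⟩]⟩,
  ⟨[25, 40, 41, 47], [], []⟩,
  ⟨[25, 40, 47], [], []⟩,
  ⟨[25, 41], [47], [⟨47, [], [], 61⟩]⟩,
  ⟨[25, 41, 47], [], []⟩,
  ⟨[25, 44], [47], [⟨47, [], [], 63⟩]⟩,
  ⟨[25, 44, 47], [], []⟩,
  ⟨[25, 47], [], []⟩,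
  ⟨[26], [28, 31, 33, 35, 38, 40, 42, 44, 46], [⟨28, [⟨35, 33, 1, 1⟩, ⟨40, 38, 1, 1⟩, ⟨44, 42, 1, 1⟩], [⟨33, [31, 33, 38, 42, 46], 35, 1, 1⟩, ⟨38, [31, 38, 42, 46], 40, 1, 1⟩, ⟨42, [31, 42, 46], 44, 1, 1⟩], 66⟩, ⟨31, [⟨38, 33, 1, 1⟩, ⟨40, 35, 1, 1⟩], [⟨33, [33, 35, 42, 44, 46], 38, 1, 1⟩, ⟨35, [35, 42, 44, 46], 40, 1, 1⟩], 70⟩, ⟨33, [⟨35, 28, 1, 1⟩, ⟨38, 31, 1, 1⟩, ⟨44, 40, 1, 1⟩], [⟨40, [40, 42, 46], 44, 1, 1⟩], 76⟩, ⟨35, [⟨40, 31, 1, 1⟩, ⟨44, 38, 1, 1⟩], [⟨38, [38, 42, 46], 44, 1, 1⟩], 80⟩, ⟨38, [⟨40, 28, 1, 1⟩, ⟨44, 35, 1, 1⟩], [], 84⟩, ⟨40, [⟨44, 33, 1, 1⟩], [], 88⟩, ⟨42, [⟨44, 28, 1, 1⟩], [], 92⟩, ⟨44, [], [], 94⟩, ⟨46, [], [], 96⟩]⟩,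
  ⟨[26, 28], [31, 46], [⟨31, [], [], 67⟩, ⟨46, [], [], 69⟩]⟩,
  ⟨[26, 28, 31], [46], [⟨46, [], [], 68⟩]⟩,
  ⟨[26, 28, 31, 46], [], []⟩,
  ⟨[26, 28, 46], [], []⟩,
  ⟨[26, 31], [42, 44, 46], [⟨42, [⟨44, 28, 1, 1⟩], [], 71⟩, ⟨44, [], [], 73⟩, ⟨46, [], [], 75⟩]⟩,
  ⟨[26, 31, 42], [46], [⟨46, [], [], 72⟩]⟩,
  ⟨[26, 31, 42, 46], [], []⟩,
  ⟨[26, 31, 44], [46], [⟨46, [], [], 74⟩]⟩,
  ⟨[26, 31, 44, 46], [], []⟩,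
  ⟨[26, 31, 46], [], []⟩,
  ⟨[26, 33], [42, 46], [⟨42, [], [], 77⟩, ⟨46, [], [], 79⟩]⟩,
  ⟨[26, 33, 42], [46], [⟨46, [], [], 78⟩]⟩,
  ⟨[26, 33, 42, 46], [], []⟩,
  ⟨[26, 33, 46], [], []⟩,
  ⟨[26, 35], [42, 46], [⟨42, [], [], 81⟩, ⟨46, [], [], 83⟩]⟩,
  ⟨[26, 35, 42], [46], [⟨46, [], [], 82⟩]⟩,
  ⟨[26, 35, 42, 46], [], []⟩,
  ⟨[26, 35, 46], [], []⟩,
  ⟨[26, 38], [42, 46], [⟨42, [], [], 85⟩, ⟨46, [], [], 87⟩]⟩,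
  ⟨[26, 38, 42], [46], [⟨46, [], [], 86⟩]⟩,
  ⟨[26, 38, 42, 46], [], []⟩,
  ⟨[26, 38, 46], [], []⟩,
  ⟨[26, 40], [42, 46], [⟨42, [], [], 89⟩, ⟨46, [], [], 91⟩]⟩,
  ⟨[26, 40, 42], [46], [⟨46, [], [], 90⟩]⟩,
  ⟨[26, 40, 42, 46], [], []⟩,
  ⟨[26, 40, 46], [], []⟩,
  ⟨[26, 42], [46], [⟨46, [], [], 93⟩]⟩,
  ⟨[26, 42, 46], [], []⟩,
  ⟨[26, 44], [46], [⟨46, [], [], 95⟩]⟩,
  ⟨[26, 44, 46], [], []⟩,
  ⟨[26, 46], [], []⟩,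
  ⟨[27], [30, 31, 32, 41, 42, 45, 46, 47], [⟨30, [⟨31, 24, 1, 1⟩, ⟨45, 42, 1, 1⟩], [⟨42, [32, 41, 42, 46, 47], 45, 1, 1⟩], 98⟩, ⟨31, [⟨45, 41, 1, 1⟩], [⟨41, [32, 41, 42, 46, 47], 45, 1, 1⟩], 106⟩, ⟨32, [⟨46, 41, 1, 1⟩, ⟨47, 42, 1, 1⟩], [⟨41, [41, 42, 45], 46, 1, 1⟩, ⟨42, [42, 45], 47, 1, 1⟩], 113⟩, ⟨41, [⟨42, 24, 1, 1⟩, ⟨45, 31, 1, 1⟩, ⟨46, 32, 1, 1⟩], [], 115⟩, ⟨42, [⟨45, 30, 1, 1⟩, ⟨47, 32, 1, 1⟩], [], 117⟩, ⟨45, [], [], 119⟩, ⟨46, [⟨47, 24, 1, 1⟩], [], 122⟩, ⟨47, [], [], 123⟩]⟩,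
  ⟨[27, 30], [32, 41, 46, 47], [⟨32, [⟨46, 41, 1, 1⟩], [⟨41, [41, 47], 46, 1, 1⟩], 99⟩, ⟨41, [⟨46, 32, 1, 1⟩], [], 101⟩, ⟨46, [], [], 103⟩, ⟨47, [], [], 105⟩]⟩,
  ⟨[27, 30, 32], [47], [⟨47, [], [], 100⟩]⟩,
  ⟨[27, 30, 32, 47], [], []⟩,
  ⟨[27, 30, 41], [47], [⟨47, [], [], 102⟩]⟩,
  ⟨[27, 30, 41, 47], [], []⟩,
  ⟨[27, 30, 46], [47], [⟨47, [], [], 104⟩]⟩,
  ⟨[27, 30, 46, 47], [], []⟩,
  ⟨[27, 30, 47], [], []⟩,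
  ⟨[27, 31], [32, 42, 46, 47], [⟨32, [⟨47, 42, 1, 1⟩], [⟨42, [42, 46], 47, 1, 1⟩], 107⟩, ⟨42, [⟨47, 32, 1, 1⟩], [], 109⟩, ⟨46, [⟨47, 24, 1, 1⟩], [], 111⟩, ⟨47, [], [], 112⟩]⟩,
  ⟨[27, 31, 32], [46], [⟨46, [], [], 108⟩]⟩,
  ⟨[27, 31, 32, 46], [], []⟩,
  ⟨[27, 31, 42], [46], [⟨46, [], [], 110⟩]⟩,
  ⟨[27, 31, 42, 46], [], []⟩,
  ⟨[27, 31, 46], [], []⟩,
  ⟨[27, 31, 47], [], []⟩,
  ⟨[27, 32], [45], [⟨45, [], [], 114⟩]⟩,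
  ⟨[27, 32, 45], [], []⟩,
  ⟨[27, 41], [47], [⟨47, [], [], 116⟩]⟩,
  ⟨[27, 41, 47], [], []⟩,
  ⟨[27, 42], [46], [⟨46, [], [], 118⟩]⟩,
  ⟨[27, 42, 46], [], []⟩,
  ⟨[27, 45], [46, 47], [⟨46, [⟨47, 24, 1, 1⟩], [], 120⟩, ⟨47, [], [], 121⟩]⟩,
  ⟨[27, 45, 46], [], []⟩,
  ⟨[27, 45, 47], [], []⟩,
  ⟨[27, 46], [], []⟩,
  ⟨[27, 47], [], []⟩,
  ⟨[28], [30, 31, 32, 41, 43, 45, 46, 47], [⟨30, [⟨32, 26, 1, 1⟩, ⟨46, 43, 1, 1⟩], [⟨43, [31, 41, 43, 45, 47], 46, 1, 1⟩], 125⟩, ⟨31, [⟨32, 25, 1, 1⟩, ⟨45, 41, 1, 1⟩, ⟨47, 43, 1, 1⟩], [⟨41, [41, 43, 46], 45, 1, 1⟩, ⟨43, [43, 46], 47, 1, 1⟩], 133⟩, ⟨32, [⟨46, 41, 1, 1⟩], [⟨41, [41, 43, 45, 47], 46, 1, 1⟩], 135⟩, ⟨41, [⟨43, 26, 1, 1⟩, ⟨45, 31, 1, 1⟩, ⟨46, 32, 1, 1⟩], [], 140⟩, ⟨43, [⟨46, 30, 1, 1⟩, ⟨47, 31, 1, 1⟩], [], 142⟩, ⟨45, [⟨46, 25, 1, 1⟩, ⟨47, 26, 1, 1⟩], [],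 144⟩, ⟨46, [], [], 145⟩, ⟨47, [], [], 147⟩]⟩,
  ⟨[28, 30], [31, 41, 45, 47], [⟨31, [⟨45, 41, 1, 1⟩], [⟨41, [41, 47], 45, 1, 1⟩], 126⟩, ⟨41, [⟨45, 31, 1, 1⟩], [], 128⟩, ⟨45, [], [], 130⟩, ⟨47, [], [], 132⟩]⟩,
  ⟨[28, 30, 31], [47], [⟨47, [], [], 127⟩]⟩,
  ⟨[28, 30, 31, 47], [], []⟩,
  ⟨[28, 30, 41], [47], [⟨47, [], [], 129⟩]⟩,
  ⟨[28, 30, 41, 47], [], []⟩,
  ⟨[28, 30, 45], [47], [⟨47, [], [], 131⟩]⟩,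
  ⟨[28, 30, 45, 47], [], []⟩,
  ⟨[28, 30, 47], [], []⟩,
  ⟨[28, 31], [46], [⟨46, [], [], 134⟩]⟩,
  ⟨[28, 31, 46], [], []⟩,
  ⟨[28, 32], [43, 45, 47], [⟨43, [⟨47, 31, 1, 1⟩], [], 136⟩, ⟨45, [⟨47, 26, 1, 1⟩], [], 138⟩, ⟨47, [], [], 139⟩]⟩,
  ⟨[28, 32, 43], [45], [⟨45, [], [], 137⟩]⟩,
  ⟨[28, 32, 43, 45], [], []⟩,
  ⟨[28, 32, 45], [], []⟩,
  ⟨[28, 32, 47], [], []⟩,
  ⟨[28, 41], [47], [⟨47, [], [], 141⟩]⟩,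
  ⟨[28, 41, 47], [], []⟩,
  ⟨[28, 43], [45], [⟨45, [], [], 143⟩]⟩,
  ⟨[28, 43, 45], [], []⟩,
  ⟨[28, 45], [], []⟩,
  ⟨[28, 46], [47], [⟨47, [], [], 146⟩]⟩,
  ⟨[28, 46, 47], [], []⟩,
  ⟨[28, 47], [], []⟩,
  ⟨[29], [30, 31, 32, 42, 43, 45, 46, 47], [⟨30, [⟨31, 24, 1, 1⟩, ⟨32, 26, 1, 1⟩, ⟨45, 42, 1, 1⟩, ⟨46, 43, 1, 1⟩], [⟨42, [42, 43, 47], 45, 1, 1⟩, ⟨43, [43, 47], 46, 1, 1⟩], 149⟩, ⟨31, [⟨32, 25, 1, 1⟩, ⟨47, 43, 1, 1⟩], [⟨43, [42, 43, 45, 46], 47, 1, 1⟩], 151⟩, ⟨32, [⟨47, 42, 1, 1⟩], [⟨42, [42, 43, 45, 46], 47, 1, 1⟩], 157⟩, ⟨42, [⟨43, 25, 1, 1⟩, ⟨45, 30, 1, 1⟩, ⟨47, 32, 1, 1⟩], [], 162⟩, ⟨43, [⟨46, 30, 1, 1⟩, ⟨47, 31, 1, 1⟩], [], 164⟩, ⟨45, [⟨46, 25, 1, 1⟩, ⟨47, 26, 1, 1⟩], [], 166⟩, ⟨46, [⟨47, 24, 1, 1⟩], [], 167⟩, ⟨47, [], [], 168⟩]⟩,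
  ⟨[29, 30], [47], [⟨47, [], [], 150⟩]⟩,
  ⟨[29, 30, 47], [], []⟩,
  ⟨[29, 31], [42, 45, 46], [⟨42, [⟨45, 30, 1, 1⟩], [], 152⟩, ⟨45, [], [], 154⟩, ⟨46, [], [], 156⟩]⟩,
  ⟨[29, 31, 42], [46], [⟨46, [], [], 153⟩]⟩,
  ⟨[29, 31, 42, 46], [], []⟩,
  ⟨[29, 31, 45], [46], [⟨46, [], [], 155⟩]⟩,
  ⟨[29, 31, 45, 46], [], []⟩,
  ⟨[29, 31, 46], [], []⟩,
  ⟨[29, 32], [43, 45, 46], [⟨43, [⟨46, 30, 1, 1⟩], [], 158⟩, ⟨45, [⟨46, 25, 1, 1⟩], [], 160⟩, ⟨46, [], [], 161⟩]⟩,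
  ⟨[29, 32, 43], [45], [⟨45, [], [], 159⟩]⟩,
  ⟨[29, 32, 43, 45], [], []⟩,
  ⟨[29, 32, 45], [], []⟩,
  ⟨[29, 32, 46], [], []⟩,
  ⟨[29, 42], [46], [⟨46, [], [], 163⟩]⟩,
  ⟨[29, 42, 46], [], []⟩,
  ⟨[29, 43], [45], [⟨45, [], [], 165⟩]⟩,
  ⟨[29, 43, 45], [], []⟩,
  ⟨[29, 45], [], []⟩,
  ⟨[29, 46], [], []⟩,
  ⟨[29, 47], [], []⟩,
  ⟨[30], [34, 35, 38, 39, 41, 44, 47], [⟨34, [⟨35, 25, 1, 1⟩, ⟨38, 29, 1, 1⟩, ⟨44, 39, 1, 1⟩], [⟨39, [39, 41, 47], 44, 1, 1⟩], 170⟩, ⟨35, [⟨39, 29, 1, 1⟩, ⟨44, 38, 1, 1⟩], [⟨38, [38, 41, 47], 44, 1, 1⟩], 174⟩, ⟨38, [⟨39, 25, 1, 1⟩, ⟨44, 35, 1, 1⟩], [], 178⟩, ⟨39, [⟨44, 34, 1, 1⟩], [], 182⟩, ⟨41, [⟨44, 29, 1, 1⟩], [], 186⟩, ⟨44, [], [], 188⟩, ⟨47, [], [], 190⟩]⟩,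
  ⟨[30, 34], [41, 47], [⟨41, [], [], 171⟩, ⟨47, [], [], 173⟩]⟩,
  ⟨[30, 34, 41], [47], [⟨47, [], [], 172⟩]⟩,
  ⟨[30, 34, 41, 47], [], []⟩,
  ⟨[30, 34, 47], [], []⟩,
  ⟨[30, 35], [41, 47], [⟨41, [], [], 175⟩, ⟨47, [], [], 177⟩]⟩,
  ⟨[30, 35, 41], [47], [⟨47, [], [], 176⟩]⟩,
  ⟨[30, 35, 41, 47], [], []⟩,
  ⟨[30, 35, 47], [], []⟩,
  ⟨[30, 38], [41, 47], [⟨41, [], [], 179⟩, ⟨47, [], [], 181⟩]⟩,
  ⟨[30, 38, 41], [47], [⟨47, [], [], 180⟩]⟩,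
  ⟨[30, 38, 41, 47], [], []⟩,
  ⟨[30, 38, 47], [], []⟩,
  ⟨[30, 39], [41, 47], [⟨41, [], [], 183⟩, ⟨47, [], [], 185⟩]⟩,
  ⟨[30, 39, 41], [47], [⟨47, [], [], 184⟩]⟩,
  ⟨[30, 39, 41, 47], [], []⟩,
  ⟨[30, 39, 47], [], []⟩,
  ⟨[30, 41], [47], [⟨47, [], [], 187⟩]⟩,
  ⟨[30, 41, 47], [], []⟩,
  ⟨[30, 44], [47], [⟨47, [], [], 189⟩]⟩,
  ⟨[30, 44, 47], [], []⟩,
  ⟨[30, 47], [], []⟩,
  ⟨[31], [34, 36, 37, 39, 42, 44, 46], [⟨34, [⟨36, 26, 1, 1⟩, ⟨37, 28, 1, 1⟩, ⟨44, 39, 1, 1⟩], [⟨39, [39, 42, 46], 44, 1, 1⟩], 192⟩, ⟨36, [⟨39, 28, 1, 1⟩, ⟨44, 37, 1, 1⟩], [⟨37, [37, 42, 46], 44, 1, 1⟩], 196⟩, ⟨37, [⟨39, 26, 1, 1⟩, ⟨44, 36, 1, 1⟩], [], 200⟩, ⟨39, [⟨44, 34, 1, 1⟩], [], 204⟩, ⟨42, [⟨44, 28, 1, 1⟩], [], 208⟩, ⟨44, [], [], 210⟩, ⟨46, [], [], 212⟩]⟩,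
  ⟨[31, 34], [42, 46], [⟨42, [], [], 193⟩, ⟨46, [], [], 195⟩]⟩,
  ⟨[31, 34, 42], [46], [⟨46, [], [], 194⟩]⟩,
  ⟨[31, 34, 42, 46], [], []⟩,
  ⟨[31, 34, 46], [], []⟩,
  ⟨[31, 36], [42, 46], [⟨42, [], [], 197⟩, ⟨46, [], [], 199⟩]⟩,
  ⟨[31, 36, 42], [46], [⟨46, [], [], 198⟩]⟩,
  ⟨[31, 36, 42, 46], [], []⟩,
  ⟨[31, 36, 46], [], []⟩,
  ⟨[31, 37], [42, 46], [⟨42, [], [], 201⟩, ⟨46, [], [], 203⟩]⟩,
  ⟨[31, 37, 42], [46], [⟨46, [], [], 202⟩]⟩,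
  ⟨[31, 37, 42, 46], [], []⟩,
  ⟨[31, 37, 46], [], []⟩,
  ⟨[31, 39], [42, 46], [⟨42, [], [], 205⟩, ⟨46, [], [], 207⟩]⟩,
  ⟨[31, 39, 42], [46], [⟨46, [], [], 206⟩]⟩,
  ⟨[31, 39, 42, 46], [], []⟩,
  ⟨[31, 39, 46], [], []⟩,
  ⟨[31, 42], [46], [⟨46, [], [], 209⟩]⟩,
  ⟨[31, 42, 46], [], []⟩,
  ⟨[31, 44], [46], [⟨46, [], [], 211⟩]⟩,
  ⟨[31, 44, 46], [], []⟩,
  ⟨[31, 46], [], []⟩,
  ⟨[32], [35, 36, 37, 38, 43, 44, 45], [⟨35, [⟨36, 24, 1, 1⟩, ⟨37, 27, 1, 1⟩, ⟨44, 38, 1, 1⟩], [⟨38, [38, 43, 45], 44, 1, 1⟩], 214⟩, ⟨36, [⟨38, 27, 1, 1⟩, ⟨44, 37, 1, 1⟩], [⟨37, [37, 43, 45], 44, 1, 1⟩], 218⟩, ⟨37, [⟨38, 24, 1, 1⟩, ⟨44, 36, 1, 1⟩], [], 222⟩, ⟨38, [⟨44, 35, 1, 1⟩], [], 226⟩, ⟨43, [⟨44, 27, 1, 1⟩], [], 230⟩, ⟨44, [], [], 232⟩, ⟨45, [], [], 234⟩]⟩,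
  ⟨[32, 35], [43, 45], [⟨43, [], [], 215⟩, ⟨45, [], [], 217⟩]⟩,
  ⟨[32, 35, 43], [45], [⟨45, [], [], 216⟩]⟩,
  ⟨[32, 35, 43, 45], [], []⟩,
  ⟨[32, 35, 45], [], []⟩,
  ⟨[32, 36], [43, 45], [⟨43, [], [], 219⟩, ⟨45, [], [], 221⟩]⟩,
  ⟨[32, 36, 43], [45], [⟨45, [], [], 220⟩]⟩,
  ⟨[32, 36, 43, 45], [], []⟩,
  ⟨[32, 36, 45], [], []⟩,
  ⟨[32, 37], [43, 45], [⟨43, [], [], 223⟩, ⟨45, [], [], 225⟩]⟩,
  ⟨[32, 37, 43], [45], [⟨45, [], [], 224⟩]⟩,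
  ⟨[32, 37, 43, 45], [], []⟩,
  ⟨[32, 37, 45], [], []⟩,
  ⟨[32, 38], [43, 45], [⟨43, [], [], 227⟩, ⟨45, [], [], 229⟩]⟩,
  ⟨[32, 38, 43], [45], [⟨45, [], [], 228⟩]⟩,
  ⟨[32, 38, 43, 45], [], []⟩,
  ⟨[32, 38, 45], [], []⟩,
  ⟨[32, 43], [45], [⟨45, [], [], 231⟩]⟩,
  ⟨[32, 43, 45], [], []⟩,
  ⟨[32, 44], [45], [⟨45, [], [], 233⟩]⟩,
  ⟨[32, 44, 45], [], []⟩,
  ⟨[32, 45], [], []⟩,
  ⟨[33], [41, 42, 43, 45, 46, 47], [⟨41, [⟨42, 24, 1, 1⟩, ⟨43, 26, 1, 1⟩], [], 236⟩, ⟨42, [⟨43, 25, 1, 1⟩], [], 242⟩, ⟨43, [], [], 247⟩, ⟨45, [⟨46, 25, 1, 1⟩, ⟨47, 26, 1, 1⟩], [], 251⟩, ⟨46, [⟨47, 24, 1, 1⟩], [], 252⟩, ⟨47, [], [], 253⟩]⟩,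
  ⟨[33, 41], [45, 46, 47], [⟨45, [⟨46, 25, 1, 1⟩], [], 237⟩, ⟨46, [], [], 239⟩, ⟨47, [], [], 241⟩]⟩,
  ⟨[33, 41, 45], [47], [⟨47, [], [], 238⟩]⟩,
  ⟨[33, 41, 45, 47], [], []⟩,
  ⟨[33, 41, 46], [47], [⟨47, [], [], 240⟩]⟩,
  ⟨[33, 41, 46, 47], [], []⟩,
  ⟨[33, 41, 47], [], []⟩,
  ⟨[33, 42], [45, 46, 47], [⟨45, [⟨47, 26, 1, 1⟩], [], 243⟩, ⟨46, [⟨47, 24, 1, 1⟩], [], 245⟩, ⟨47, [], [], 246⟩]⟩,
  ⟨[33, 42, 45], [46], [⟨46, [], [], 244⟩]⟩,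
  ⟨[33, 42, 45, 46], [], []⟩,
  ⟨[33, 42, 46], [], []⟩,
  ⟨[33, 42, 47], [], []⟩,
  ⟨[33, 43], [45, 46, 47], [⟨45, [⟨46, 25, 1, 1⟩, ⟨47, 26, 1, 1⟩], [], 248⟩, ⟨46, [⟨47, 24, 1, 1⟩], [], 249⟩, ⟨47, [], [], 250⟩]⟩,
  ⟨[33, 43, 45], [], []⟩,
  ⟨[33, 43, 46], [], []⟩,
  ⟨[33, 43, 47], [], []⟩,
  ⟨[33, 45], [], []⟩,
  ⟨[33, 46], [], []⟩,
  ⟨[33, 47], [], []⟩,
  ⟨[34], [41, 42, 43, 45, 46, 47], [⟨41, [⟨42, 24, 1, 1⟩, ⟨45, 31, 1, 1⟩], [], 255⟩, ⟨42, [⟨45, 30, 1, 1⟩], [], 261⟩, ⟨43, [⟨46, 30, 1, 1⟩, ⟨47, 31, 1, 1⟩], [], 266⟩, ⟨45, [], [], 268⟩, ⟨46, [⟨47, 24, 1, 1⟩], [], 271⟩, ⟨47, [], [], 272⟩]⟩,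
  ⟨[34, 41], [43, 46, 47], [⟨43, [⟨46, 30, 1, 1⟩], [], 256⟩, ⟨46, [], [], 258⟩, ⟨47, [], [], 260⟩]⟩,
  ⟨[34, 41, 43], [47], [⟨47, [], [], 257⟩]⟩,
  ⟨[34, 41, 43, 47], [], []⟩,
  ⟨[34, 41, 46], [47], [⟨47, [], [], 259⟩]⟩,
  ⟨[34, 41, 46, 47], [], []⟩,
  ⟨[34, 41, 47], [], []⟩,
  ⟨[34, 42], [43, 46, 47], [⟨43, [⟨47, 31, 1, 1⟩], [], 262⟩, ⟨46, [⟨47, 24, 1, 1⟩], [], 264⟩, ⟨47, [], [], 265⟩]⟩,
  ⟨[34, 42, 43], [46], [⟨46, [], [], 263⟩]⟩,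
  ⟨[34, 42, 43, 46], [], []⟩,
  ⟨[34, 42, 46], [], []⟩,
  ⟨[34, 42, 47], [], []⟩,
  ⟨[34, 43], [45], [⟨45, [], [], 267⟩]⟩,
  ⟨[34, 43, 45], [], []⟩,
  ⟨[34, 45], [46, 47], [⟨46, [⟨47, 24, 1, 1⟩], [], 269⟩, ⟨47, [], [], 270⟩]⟩,
  ⟨[34, 45, 46], [], []⟩,
  ⟨[34, 45, 47], [], []⟩,
  ⟨[34, 46], [], []⟩,
  ⟨[34, 47], [], []⟩,
  ⟨[35], [41, 42, 43, 45, 46, 47], [⟨41, [⟨43, 26, 1, 1⟩, ⟨46, 32, 1, 1⟩], [], 274⟩, ⟨42, [⟨43, 25, 1, 1⟩, ⟨45, 30, 1, 1⟩, ⟨47, 32, 1, 1⟩], [], 280⟩, ⟨43, [⟨46, 30, 1, 1⟩], [], 282⟩, ⟨45, [⟨46, 25, 1, 1⟩, ⟨47, 26, 1, 1⟩], [], 285⟩, ⟨46, [], [], 286⟩, ⟨47, [], [], 288⟩]⟩,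
  ⟨[35, 41], [42, 45, 47], [⟨42, [⟨45, 30, 1, 1⟩], [], 275⟩, ⟨45, [], [], 277⟩, ⟨47, [], [], 279⟩]⟩,
  ⟨[35, 41, 42], [47], [⟨47, [], [], 276⟩]⟩,
  ⟨[35, 41, 42, 47], [], []⟩,
  ⟨[35, 41, 45], [47], [⟨47, [], [], 278⟩]⟩,
  ⟨[35, 41, 45, 47], [], []⟩,
  ⟨[35, 41, 47], [], []⟩,
  ⟨[35, 42], [46], [⟨46, [], [], 281⟩]⟩,
  ⟨[35, 42, 46], [], []⟩,
  ⟨[35, 43], [45, 47], [⟨45, [⟨47, 26, 1, 1⟩], [], 283⟩, ⟨47, [], [], 284⟩]⟩,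
  ⟨[35, 43, 45], [], []⟩,
  ⟨[35, 43, 47], [], []⟩,
  ⟨[35, 45], [], []⟩,
  ⟨[35, 46], [47], [⟨47, [], [], 287⟩]⟩,
  ⟨[35, 46, 47], [], []⟩,
  ⟨[35, 47], [], []⟩,
  ⟨[36], [41, 42, 43, 45, 46, 47], [⟨41, [⟨42, 24, 1, 1⟩, ⟨43, 26, 1, 1⟩, ⟨45, 31, 1, 1⟩, ⟨46, 32, 1, 1⟩], [], 290⟩, ⟨42, [⟨43, 25, 1, 1⟩, ⟨47, 32, 1, 1⟩], [], 292⟩, ⟨43, [⟨47, 31, 1, 1⟩], [], 296⟩, ⟨45, [⟨46, 25, 1, 1⟩, ⟨47, 26, 1, 1⟩], [], 299⟩, ⟨46, [⟨47, 24, 1, 1⟩], [], 300⟩, ⟨47, [], [], 301⟩]⟩,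
  ⟨[36, 41], [47], [⟨47, [], [], 291⟩]⟩,
  ⟨[36, 41, 47], [], []⟩,
  ⟨[36, 42], [45, 46], [⟨45, [], [], 293⟩, ⟨46, [], [], 295⟩]⟩,
  ⟨[36, 42, 45], [46], [⟨46, [], [], 294⟩]⟩,
  ⟨[36, 42, 45, 46], [], []⟩,
  ⟨[36, 42, 46], [], []⟩,
  ⟨[36, 43], [45, 46], [⟨45, [⟨46, 25, 1, 1⟩], [], 297⟩, ⟨46, [], [], 298⟩]⟩,
  ⟨[36, 43, 45], [], []⟩,
  ⟨[36, 43, 46], [], []⟩,
  ⟨[36, 45], [], []⟩,
  ⟨[36, 46], [], []⟩,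
  ⟨[36, 47], [], []⟩,
  ⟨[37], [41, 42, 43, 45, 46, 47], [⟨41, [⟨45, 31, 1, 1⟩, ⟨46, 32, 1, 1⟩], [], 303⟩, ⟨42, [⟨43, 25, 1, 1⟩, ⟨45, 30, 1, 1⟩, ⟨47, 32, 1, 1⟩], [], 309⟩, ⟨43, [⟨46, 30, 1, 1⟩, ⟨47, 31, 1, 1⟩], [], 311⟩, ⟨45, [⟨46, 25, 1, 1⟩], [], 313⟩, ⟨46, [], [], 315⟩, ⟨47, [], [], 317⟩]⟩,
  ⟨[37, 41], [42, 43, 47], [⟨42, [⟨43, 25, 1, 1⟩], [], 304⟩, ⟨43, [], [], 306⟩, ⟨47, [], [], 308⟩]⟩,
  ⟨[37, 41, 42], [47], [⟨47, [], [], 305⟩]⟩,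
  ⟨[37, 41, 42, 47], [], []⟩,
  ⟨[37, 41, 43], [47], [⟨47, [], [], 307⟩]⟩,
  ⟨[37, 41, 43, 47], [], []⟩,
  ⟨[37, 41, 47], [], []⟩,
  ⟨[37, 42], [46], [⟨46, [], [], 310⟩]⟩,
  ⟨[37, 42, 46], [], []⟩,
  ⟨[37, 43], [45], [⟨45, [], [], 312⟩]⟩,
  ⟨[37, 43, 45], [], []⟩,
  ⟨[37, 45], [47], [⟨47, [], [], 314⟩]⟩,
  ⟨[37, 45, 47], [], []⟩,
  ⟨[37, 46], [47], [⟨47, [], [], 316⟩]⟩,
  ⟨[37, 46, 47], [], []⟩,
  ⟨[37, 47], [], []⟩,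
  ⟨[38], [41, 42, 43, 45, 46, 47], [⟨41, [⟨42, 24, 1, 1⟩, ⟨43, 26, 1, 1⟩, ⟨45, 31, 1, 1⟩, ⟨46, 32, 1, 1⟩], [], 319⟩, ⟨42, [⟨45, 30, 1, 1⟩, ⟨47, 32, 1, 1⟩], [], 321⟩, ⟨43, [⟨46, 30, 1, 1⟩, ⟨47, 31, 1, 1⟩], [], 325⟩, ⟨45, [⟨47, 26, 1, 1⟩], [], 327⟩, ⟨46, [⟨47, 24, 1, 1⟩], [], 329⟩, ⟨47, [], [], 330⟩]⟩,
  ⟨[38, 41], [47], [⟨47, [], [], 320⟩]⟩,
  ⟨[38, 41, 47], [], []⟩,
  ⟨[38, 42], [43, 46], [⟨43, [], [], 322⟩, ⟨46, [], [], 324⟩]⟩,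
  ⟨[38, 42, 43], [46], [⟨46, [], [], 323⟩]⟩,
  ⟨[38, 42, 43, 46], [], []⟩,
  ⟨[38, 42, 46], [], []⟩,
  ⟨[38, 43], [45], [⟨45, [], [], 326⟩]⟩,
  ⟨[38, 43, 45], [], []⟩,
  ⟨[38, 45], [46], [⟨46, [], [], 328⟩]⟩,
  ⟨[38, 45, 46], [], []⟩,
  ⟨[38, 46], [], []⟩,
  ⟨[38, 47], [], []⟩,
  ⟨[39], [41, 42, 43, 45, 46, 47], [⟨41, [⟨42, 24, 1, 1⟩, ⟨43, 26, 1, 1⟩, ⟨45, 31, 1, 1⟩, ⟨46, 32, 1, 1⟩], [], 332⟩, ⟨42, [⟨43, 25, 1, 1⟩, ⟨45, 30, 1, 1⟩, ⟨47, 32, 1, 1⟩], [], 334⟩, ⟨43, [⟨46, 30, 1, 1⟩, ⟨47, 31, 1, 1⟩], [], 336⟩, ⟨45, [⟨46, 25, 1, 1⟩, ⟨47, 26, 1, 1⟩], [], 338⟩, ⟨46, [⟨47, 24, 1, 1⟩], [], 339⟩, ⟨47, [], [], 340⟩]⟩,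
  ⟨[39, 41], [47], [⟨47, [], [], 333⟩]⟩,
  ⟨[39, 41, 47], [], []⟩,
  ⟨[39, 42], [46], [⟨46, [], [], 335⟩]⟩,
  ⟨[39, 42, 46], [], []⟩,
  ⟨[39, 43], [45], [⟨45, [], [], 337⟩]⟩,
  ⟨[39, 43, 45], [], []⟩,
  ⟨[39, 45], [], []⟩,
  ⟨[39, 46], [], []⟩,
  ⟨[39, 47], [], []⟩,
  ⟨[40], [41, 42, 43, 45, 46, 47], [⟨41, [⟨42, 24, 1, 1⟩, ⟨43, 26, 1, 1⟩, ⟨45, 31, 1, 1⟩, ⟨46, 32, 1, 1⟩], [], 342⟩, ⟨42, [⟨43, 25, 1, 1⟩, ⟨45, 30, 1, 1⟩, ⟨47, 32, 1, 1⟩], [], 344⟩, ⟨43, [⟨46, 30, 1, 1⟩, ⟨47, 31, 1, 1⟩], [], 346⟩, ⟨45, [⟨46, 25, 1, 1⟩, ⟨47, 26, 1, 1⟩], [], 348⟩, ⟨46, [⟨47, 24, 1, 1⟩], [], 349⟩, ⟨47, [], [], 350⟩]⟩,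
  ⟨[40, 41], [47], [⟨47, [], [], 343⟩]⟩,
  ⟨[40, 41, 47], [], []⟩,
  ⟨[40, 42], [46], [⟨46, [], [], 345⟩]⟩,
  ⟨[40, 42, 46], [], []⟩,
  ⟨[40, 43], [45], [⟨45, [], [], 347⟩]⟩,
  ⟨[40, 43, 45], [], []⟩,
  ⟨[40, 45], [], []⟩,
  ⟨[40, 46], [], []⟩,
  ⟨[40, 47], [], []⟩,
  ⟨[41], [47], [⟨47, [], [], 352⟩]⟩,
  ⟨[41, 47], [], []⟩,
  ⟨[42], [46], [⟨46, [], [], 354⟩]⟩,
  ⟨[42, 46], [], []⟩,
  ⟨[43], [45], [⟨45, [], [], 356⟩]⟩,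
  ⟨[43, 45], [], []⟩,
  ⟨[44], [45, 46, 47], [⟨45, [⟨46, 25, 1, 1⟩, ⟨47, 26, 1, 1⟩], [], 358⟩, ⟨46, [⟨47, 24, 1, 1⟩], [], 359⟩, ⟨47, [], [], 360⟩]⟩,
  ⟨[44, 45], [], []⟩,
  ⟨[44, 46], [], []⟩,
  ⟨[44, 47], [], []⟩,
  ⟨[45], [], []⟩,
  ⟨[46], [], []⟩,
  ⟨[47], [], []⟩]

/-- The nodes as a function. -/
def nodes (i : ℕ) : NodeD := nodesL.getD i ⟨[], [], []⟩

set_option maxHeartbeats 0 in
theorem tt_eq : ∀ s ∈ posL, ∀ r ∈ posL, tt s r = oddT chevF4 s r := by decide +kernel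

set_option maxHeartbeats 0 in
theorem nodes_ok : ∀ id < 364, NodeOK tt posL nodes 364 id := by decide +kernel

/-- The paths to the representatives. -/
def pathsL : List (List RStep × List ℕ) :=
  [([], []),
  ([.refl 2, .refl 1, .refl 0, .refl 2, .refl 1, .refl 2, .refl 3], [47]),
  ([.refl 0, .refl 2, .refl 1, .refl 0, .refl 2, .refl 1, .refl 3, .refl 2, .refl 1, .refl 2], [39, 45]),
  ([.mv1 28 24 32 2 1 29 1 1, .refl 2, .refl 1, .refl 2, .refl 3, .mv1 25 27 28 1 1 30 1 2, .refl 2, .refl 3, .mv0 24 30 31 1 1, .refl 0, .refl 1, .refl 2, .refl 1, .refl 3, .refl 2, .refl 1], [39, 45]),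
  ([.mv1 34 32 45 2 1 40 1 1, .mv1 28 24 32 2 1 29 1 1, .mv0 39 27 40 1 1, .refl 2, .refl 1, .refl 2, .refl 3, .mv1 25 27 28 1 1 30 1 2, .refl 2, .refl 3, .mv0 24 30 31 1 1, .refl 0, .refl 1, .refl 2, .refl 1, .refl 3, .refl 2, .refl 1], [39, 45]),
  ([.mv1 37 24 45 2 1 38 1 1, .mv0 36 27 38 1 1, .refl 0, .refl 2, .refl 1, .refl 0, .refl 2, .refl 1, .refl 3, .refl 2, .refl 1, .refl 2], [39, 45]),
  ([.mv1 28 24 32 2 1 29 1 1, .refl 0, .refl 1, .refl 2, .refl 1, .refl 0, .refl 2, .refl 1, .refl 2, .refl 3], [47, 44]),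
  ([.mv1 28 24 32 2 1 29 1 1, .refl 2, .refl 1, .refl 0, .refl 2, .refl 1, .refl 3, .refl 2, .refl 1, .refl 0, .refl 2, .mv1 37 24 45 2 1 38 1 1, .mv0 36 27 38 1 1, .refl 0, .refl 2, .refl 1, .refl 0, .refl 2, .refl 1, .refl 3, .refl 2, .refl 1, .refl 2], [39, 45]),
  ([.mv1 27 43 45 2 1 44 1 1, .refl 1, .refl 0, .refl 2, .refl 1, .refl 2, .refl 3, .refl 2, .refl 1, .refl 0, .refl 2, .mv1 34 32 45 2 1 40 1 1, .mv1 28 24 32 2 1 29 1 1, .mv0 39 27 40 1 1, .refl 2, .refl 1, .refl 2, .refl 3, .mv1 25 27 28 1 1 30 1 2, .refl 2, .refl 3, .mv0 24 30 31 1 1, .refl 0, .refl 1, .refl 2, .refl 1, .refl 3, .refl 2, .refl 1], [39, 45]),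
  ([.refl 0, .refl 2, .refl 1, .refl 2, .refl 3, .refl 2, .refl 1, .refl 0, .refl 2, .mv1 28 24 32 2 1 29 1 1, .refl 2, .refl 1, .refl 2, .refl 3, .mv1 25 27 28 1 1 30 1 2, .refl 2, .refl 3, .mv0 24 30 31 1 1, .refl 0, .refl 1, .refl 2, .refl 1, .refl 3, .refl 2, .refl 1], [39, 45]),
  ([.refl 0, .refl 2, .refl 1, .refl 2, .refl 3, .refl 2, .refl 1, .refl 0, .refl 2, .mv1 34 32 45 2 1 40 1 1, .mv1 28 24 32 2 1 29 1 1, .mv0 39 27 40 1 1, .refl 2, .refl 1, .refl 2, .refl 3, .mv1 25 27 28 1 1 30 1 2, .refl 2, .refl 3, .mv0 24 30 31 1 1, .refl 0, .refl 1, .refl 2, .refl 1, .refl 3, .refl 2, .refl 1], [39, 45]),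
  ([.refl 1, .mv1 28 24 32 2 1 29 1 1, .refl 2, .refl 1, .refl 0, .refl 2, .refl 1, .refl 3, .refl 2, .refl 1, .refl 0, .refl 2, .mv1 37 24 45 2 1 38 1 1, .mv0 36 27 38 1 1, .refl 0, .refl 2, .refl 1, .refl 0, .refl 2, .refl 1, .refl 3, .refl 2, .refl 1, .refl 2], [39, 45]),
  ([.refl 1, .refl 2, .refl 1, .refl 0, .refl 2, .refl 1, .refl 3, .refl 2, .refl 1, .refl 2], [39, 45]),
  ([.refl 1, .refl 0, .mv1 37 24 45 2 1 38 1 1, .mv0 36 27 38 1 1, .refl 0, .refl 2, .refl 1, .refl 0, .refl 2, .refl 1, .refl 3, .refl 2, .refl 1, .refl 2], [39, 45]),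
  ([.refl 1, .refl 0, .mv1 34 32 45 2 1 40 1 1, .mv1 28 24 32 2 1 29 1 1, .mv0 39 27 40 1 1, .refl 2, .refl 1, .refl 2, .refl 3, .mv1 25 27 28 1 1 30 1 2, .refl 2, .refl 3, .mv0 24 30 31 1 1, .refl 0, .refl 1, .refl 2, .refl 1, .refl 3, .refl 2, .refl 1], [39, 45]),
  ([.refl 1, .refl 0, .mv1 28 24 32 2 1 29 1 1, .refl 2, .refl 1, .refl 2, .refl 3, .mv1 25 27 28 1 1 30 1 2, .refl 2, .refl 3, .mv0 24 30 31 1 1, .refl 0, .refl 1, .refl 2, .refl 1, .refl 3, .refl 2, .refl 1], [39, 45]),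
  ([.refl 2, .refl 1, .refl 0, .refl 2, .refl 1, .refl 3, .refl 2, .refl 1, .refl 2], [39, 45]),
  ([.refl 0, .mv1 28 24 32 2 1 29 1 1, .refl 2, .refl 1, .refl 2, .refl 3, .mv1 25 27 28 1 1 30 1 2, .refl 2, .refl 3, .mv0 24 30 31 1 1, .refl 0, .refl 1, .refl 2, .refl 1, .refl 3, .refl 2, .refl 1], [39, 45]),
  ([.refl 0, .mv1 34 32 45 2 1 40 1 1, .mv1 28 24 32 2 1 29 1 1, .mv0 39 27 40 1 1, .refl 2, .refl 1, .refl 2, .refl 3, .mv1 25 27 28 1 1 30 1 2, .refl 2, .refl 3, .mv0 24 30 31 1 1, .refl 0, .refl 1, .refl 2, .refl 1, .refl 3, .refl 2, .refl 1], [39, 45]),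
  ([.refl 0, .mv1 37 24 45 2 1 38 1 1, .mv0 36 27 38 1 1, .refl 0, .refl 2, .refl 1, .refl 0, .refl 2, .refl 1, .refl 3, .refl 2, .refl 1, .refl 2], [39, 45]),
  ([.refl 1, .refl 0, .refl 2, .refl 1, .refl 0, .refl 2, .refl 1], [39, 45]),
  ([.refl 1, .refl 2, .refl 1, .refl 2, .refl 3, .refl 2, .refl 1, .refl 0, .refl 2, .mv1 37 24 45 2 1 38 1 1, .mv0 36 27 38 1 1, .refl 0, .refl 2, .refl 1, .refl 0, .refl 2, .refl 1, .refl 3, .refl 2, .refl 1, .refl 2], [39, 45]),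
  ([.refl 1, .refl 2, .refl 1, .refl 2, .refl 3, .refl 2, .refl 1, .refl 0, .refl 2, .mv1 34 32 45 2 1 40 1 1, .mv1 28 24 32 2 1 29 1 1, .mv0 39 27 40 1 1, .refl 2, .refl 1, .refl 2, .refl 3, .mv1 25 27 28 1 1 30 1 2, .refl 2, .refl 3, .mv0 24 30 31 1 1, .refl 0, .refl 1, .refl 2, .refl 1, .refl 3, .refl 2, .refl 1], [39, 45]),
  ([.refl 1, .refl 2, .refl 1, .refl 2, .refl 3, .refl 2, .refl 1, .refl 0, .refl 2, .mv1 28 24 32 2 1 29 1 1, .refl 2, .refl 1, .refl 2, .refl 3, .mv1 25 27 28 1 1 30 1 2, .refl 2, .refl 3, .mv0 24 30 31 1 1, .refl 0, .refl 1, .refl 2, .refl 1, .refl 3, .refl 2, .refl 1], [39, 45]),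
  ([.refl 0, .refl 2, .refl 1, .refl 0, .refl 2, .refl 1], [39, 45]),
  ([.refl 2, .refl 1, .refl 2, .refl 3, .refl 2, .refl 1, .refl 0, .refl 2, .mv1 28 24 32 2 1 29 1 1, .refl 2, .refl 1, .refl 2, .refl 3, .mv1 25 27 28 1 1 30 1 2, .refl 2, .refl 3, .mv0 24 30 31 1 1, .refl 0, .refl 1, .refl 2, .refl 1, .refl 3, .refl 2, .refl 1], [39, 45]),
  ([.refl 2, .refl 1, .refl 2, .refl 3, .refl 2, .refl 1, .refl 0, .refl 2, .mv1 34 32 45 2 1 40 1 1, .mv1 28 24 32 2 1 29 1 1, .mv0 39 27 40 1 1, .refl 2, .refl 1, .refl 2, .refl 3, .mv1 25 27 28 1 1 30 1 2, .refl 2, .refl 3, .mv0 24 30 31 1 1, .refl 0, .refl 1, .refl 2, .refl 1, .refl 3, .refl 2, .refl 1], [39, 45]),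
  ([.refl 2, .refl 1, .refl 2, .refl 3, .refl 2, .refl 1, .refl 0, .refl 2, .mv1 37 24 45 2 1 38 1 1, .mv0 36 27 38 1 1, .refl 0, .refl 2, .refl 1, .refl 0, .refl 2, .refl 1, .refl 3, .refl 2, .refl 1, .refl 2], [39, 45]),
  ([.refl 0, .mv1 28 24 32 2 1 29 1 1, .refl 0, .refl 1, .refl 2, .refl 1, .refl 0, .refl 2, .refl 1, .refl 2, .refl 3], [47, 44]),
  ([.refl 0, .refl 1, .mv1 28 24 32 2 1 29 1 1, .refl 2, .refl 1, .refl 0, .refl 2, .refl 1, .refl 3, .refl 2, .refl 1, .refl 0, .refl 2, .mv1 37 24 45 2 1 38 1 1, .mv0 36 27 38 1 1, .refl 0, .refl 2, .refl 1, .refl 0, .refl 2, .refl 1, .refl 3, .refl 2, .refl 1, .refl 2], [39, 45]),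
  ([.refl 2, .refl 1, .refl 0, .refl 2, .refl 1], [39, 45]),
  ([.refl 0, .refl 2, .refl 1, .refl 2, .refl 3, .refl 2, .refl 1, .refl 0, .refl 2, .mv1 37 24 45 2 1 38 1 1, .mv0 36 27 38 1 1, .refl 0, .refl 2, .refl 1, .refl 0, .refl 2, .refl 1, .refl 3, .refl 2, .refl 1, .refl 2], [39, 45]),
  ([.refl 1, .refl 0, .mv1 28 24 32 2 1 29 1 1, .refl 0, .refl 1, .refl 2, .refl 1, .refl 0, .refl 2, .refl 1, .refl 2, .refl 3], [47, 44]),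
  ([.refl 1, .refl 0, .refl 3, .refl 2, .refl 1, .refl 2, .refl 3], [47]),
  ([.refl 0, .refl 1, .refl 0, .refl 2, .refl 1, .refl 3, .refl 2, .refl 1], [39, 45]),
  ([.refl 3, .refl 2, .mv1 28 24 32 2 1 29 1 1, .refl 2, .refl 1, .refl 2, .refl 3, .mv1 25 27 28 1 1 30 1 2, .refl 2, .refl 3, .mv0 24 30 31 1 1, .refl 0, .refl 1, .refl 2, .refl 1, .refl 3, .refl 2, .refl 1], [39, 45]),
  ([.refl 3, .refl 2, .mv1 34 32 45 2 1 40 1 1, .mv1 28 24 32 2 1 29 1 1, .mv0 39 27 40 1 1, .refl 2, .refl 1, .refl 2, .refl 3, .mv1 25 27 28 1 1 30 1 2, .refl 2, .refl 3, .mv0 24 30 31 1 1, .refl 0, .refl 1, .refl 2, .refl 1, .refl 3, .refl 2, .refl 1], [39, 45]),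
  ([.refl 3, .refl 2, .mv1 37 24 45 2 1 38 1 1, .mv0 36 27 38 1 1, .refl 0, .refl 2, .refl 1, .refl 0, .refl 2, .refl 1, .refl 3, .refl 2, .refl 1, .refl 2], [39, 45]),
  ([.refl 3, .refl 2, .mv1 28 24 32 2 1 29 1 1, .refl 0, .refl 1, .refl 2, .refl 1, .refl 0, .refl 2, .refl 1, .refl 2, .refl 3], [47, 44]),
  ([.refl 3, .refl 2, .mv1 28 24 32 2 1 29 1 1, .refl 2, .refl 1, .refl 0, .refl 2, .refl 1, .refl 3, .refl 2, .refl 1, .refl 0, .refl 2, .mv1 37 24 45 2 1 38 1 1, .mv0 36 27 38 1 1, .refl 0, .refl 2, .refl 1, .refl 0, .refl 2, .refl 1, .refl 3, .refl 2, .refl 1, .refl 2], [39, 45]),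
  ([.refl 3, .refl 2, .mv1 27 43 45 2 1 44 1 1, .refl 1, .refl 0, .refl 2, .refl 1, .refl 2, .refl 3, .refl 2, .refl 1, .refl 0, .refl 2, .mv1 34 32 45 2 1 40 1 1, .mv1 28 24 32 2 1 29 1 1, .mv0 39 27 40 1 1, .refl 2, .refl 1, .refl 2, .refl 3, .mv1 25 27 28 1 1 30 1 2, .refl 2, .refl 3, .mv0 24 30 31 1 1, .refl 0, .refl 1, .refl 2, .refl 1, .refl 3, .refl 2, .refl 1], [39, 45]),
  ([.refl 0, .refl 1, .refl 2, .refl 1, .refl 0, .refl 3, .refl 2, .mv1 28 24 32 2 1 29 1 1, .refl 2, .refl 1, .refl 2, .refl 3, .mv1 25 27 28 1 1 30 1 2, .refl 2, .refl 3, .mv0 24 30 31 1 1, .refl 0, .refl 1, .refl 2, .refl 1, .refl 3, .refl 2, .refl 1], [39, 45]),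
  ([.refl 0, .refl 1, .refl 2, .refl 1, .refl 0, .refl 3, .refl 2, .mv1 34 32 45 2 1 40 1 1, .mv1 28 24 32 2 1 29 1 1, .mv0 39 27 40 1 1, .refl 2, .refl 1, .refl 2, .refl 3, .mv1 25 27 28 1 1 30 1 2, .refl 2, .refl 3, .mv0 24 30 31 1 1, .refl 0, .refl 1, .refl 2, .refl 1, .refl 3, .refl 2, .refl 1], [39, 45]),
  ([.refl 3, .refl 2, .refl 1, .mv1 28 24 32 2 1 29 1 1, .refl 2, .refl 1, .refl 0, .refl 2, .refl 1, .refl 3, .refl 2, .refl 1, .refl 0, .refl 2, .mv1 37 24 45 2 1 38 1 1, .mv0 36 27 38 1 1, .refl 0, .refl 2, .refl 1, .refl 0, .refl 2, .refl 1, .refl 3, .refl 2, .refl 1, .refl 2], [39, 45]),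
  ([.refl 1, .refl 0, .refl 2, .refl 3, .refl 2, .refl 1, .refl 0, .refl 2, .refl 1, .refl 2], [39, 45]),
  ([.refl 3, .refl 2, .refl 1, .refl 0, .mv1 37 24 45 2 1 38 1 1, .mv0 36 27 38 1 1, .refl 0, .refl 2, .refl 1, .refl 0, .refl 2, .refl 1, .refl 3, .refl 2, .refl 1, .refl 2], [39, 45]),
  ([.refl 3, .refl 2, .refl 1, .refl 0, .mv1 34 32 45 2 1 40 1 1, .mv1 28 24 32 2 1 29 1 1, .mv0 39 27 40 1 1, .refl 2, .refl 1, .refl 2, .refl 3, .mv1 25 27 28 1 1 30 1 2, .refl 2, .refl 3, .mv0 24 30 31 1 1, .refl 0, .refl 1, .refl 2, .refl 1, .refl 3, .refl 2, .refl 1], [39, 45]),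
  ([.refl 3, .refl 2, .refl 1, .refl 0, .mv1 28 24 32 2 1 29 1 1, .refl 2, .refl 1, .refl 2, .refl 3, .mv1 25 27 28 1 1 30 1 2, .refl 2, .refl 3, .mv0 24 30 31 1 1, .refl 0, .refl 1, .refl 2, .refl 1, .refl 3, .refl 2, .refl 1], [39, 45]),
  ([.refl 1, .refl 0, .refl 2, .refl 1, .refl 3, .refl 2, .refl 1], [39, 45]),
  ([.refl 0, .refl 3, .refl 2, .mv1 28 24 32 2 1 29 1 1, .refl 2, .refl 1, .refl 2, .refl 3, .mv1 25 27 28 1 1 30 1 2, .refl 2, .refl 3, .mv0 24 30 31 1 1, .refl 0, .refl 1, .refl 2, .refl 1, .refl 3, .refl 2, .refl 1], [39, 45]),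
  ([.refl 0, .refl 3, .refl 2, .mv1 34 32 45 2 1 40 1 1, .mv1 28 24 32 2 1 29 1 1, .mv0 39 27 40 1 1, .refl 2, .refl 1, .refl 2, .refl 3, .mv1 25 27 28 1 1 30 1 2, .refl 2, .refl 3, .mv0 24 30 31 1 1, .refl 0, .refl 1, .refl 2, .refl 1, .refl 3, .refl 2, .refl 1], [39, 45]),
  ([.refl 0, .refl 3, .refl 2, .mv1 37 24 45 2 1 38 1 1, .mv0 36 27 38 1 1, .refl 0, .refl 2, .refl 1, .refl 0, .refl 2, .refl 1, .refl 3, .refl 2, .refl 1, .refl 2], [39, 45]),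
  ([.refl 1, .refl 0, .refl 3, .refl 2, .refl 1, .refl 0, .refl 2, .refl 1, .refl 2], [39, 45]),
  ([.refl 1, .refl 2, .refl 1, .refl 3, .refl 2, .refl 1, .refl 0, .mv1 37 24 45 2 1 38 1 1, .mv0 36 27 38 1 1, .refl 0, .refl 2, .refl 1, .refl 0, .refl 2, .refl 1, .refl 3, .refl 2, .refl 1, .refl 2], [39, 45]),
  ([.refl 1, .refl 2, .refl 1, .refl 3, .refl 2, .refl 1, .refl 0, .mv1 34 32 45 2 1 40 1 1, .mv1 28 24 32 2 1 29 1 1, .mv0 39 27 40 1 1, .refl 2, .refl 1, .refl 2, .refl 3, .mv1 25 27 28 1 1 30 1 2, .refl 2, .refl 3, .mv0 24 30 31 1 1, .refl 0, .refl 1, .refl 2, .refl 1, .refl 3, .refl 2, .refl 1], [39, 45]),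
  ([.refl 1, .refl 2, .refl 1, .refl 3, .refl 2, .refl 1, .refl 0, .mv1 28 24 32 2 1 29 1 1, .refl 2, .refl 1, .refl 2, .refl 3, .mv1 25 27 28 1 1 30 1 2, .refl 2, .refl 3, .mv0 24 30 31 1 1, .refl 0, .refl 1, .refl 2, .refl 1, .refl 3, .refl 2, .refl 1], [39, 45]),
  ([.refl 0, .refl 1, .refl 0, .refl 3, .refl 2, .refl 1], [39, 45]),
  ([.refl 1, .refl 2, .refl 1, .refl 0, .refl 3, .refl 2, .mv1 28 24 32 2 1 29 1 1, .refl 2, .refl 1, .refl 2, .refl 3, .mv1 25 27 28 1 1 30 1 2, .refl 2, .refl 3, .mv0 24 30 31 1 1, .refl 0, .refl 1, .refl 2, .refl 1, .refl 3, .refl 2, .refl 1], [39, 45]),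
  ([.refl 1, .refl 2, .refl 1, .refl 0, .refl 3, .refl 2, .mv1 34 32 45 2 1 40 1 1, .mv1 28 24 32 2 1 29 1 1, .mv0 39 27 40 1 1, .refl 2, .refl 1, .refl 2, .refl 3, .mv1 25 27 28 1 1 30 1 2, .refl 2, .refl 3, .mv0 24 30 31 1 1, .refl 0, .refl 1, .refl 2, .refl 1, .refl 3, .refl 2, .refl 1], [39, 45]),
  ([.refl 1, .refl 2, .refl 1, .refl 0, .refl 3, .refl 2, .mv1 37 24 45 2 1 38 1 1, .mv0 36 27 38 1 1, .refl 0, .refl 2, .refl 1, .refl 0, .refl 2, .refl 1, .refl 3, .refl 2, .refl 1, .refl 2], [39, 45]),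
  ([.refl 0, .refl 3, .refl 2, .mv1 28 24 32 2 1 29 1 1, .refl 0, .refl 1, .refl 2, .refl 1, .refl 0, .refl 2, .refl 1, .refl 2, .refl 3], [47, 44]),
  ([.refl 0, .refl 3, .refl 2, .refl 1, .mv1 28 24 32 2 1 29 1 1, .refl 2, .refl 1, .refl 0, .refl 2, .refl 1, .refl 3, .refl 2, .refl 1, .refl 0, .refl 2, .mv1 37 24 45 2 1 38 1 1, .mv0 36 27 38 1 1, .refl 0, .refl 2, .refl 1, .refl 0, .refl 2, .refl 1, .refl 3, .refl 2, .refl 1, .refl 2], [39, 45]),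
  ([.refl 1, .refl 0, .refl 3, .refl 2, .refl 1], [39, 45]),
  ([.refl 0, .refl 1, .refl 2, .refl 1, .refl 0, .refl 3, .refl 2, .mv1 37 24 45 2 1 38 1 1, .mv0 36 27 38 1 1, .refl 0, .refl 2, .refl 1, .refl 0, .refl 2, .refl 1, .refl 3, .refl 2, .refl 1, .refl 2], [39, 45]),
  ([.refl 3, .refl 2, .refl 1, .refl 0, .mv1 28 24 32 2 1 29 1 1, .refl 0, .refl 1, .refl 2, .refl 1, .refl 0, .refl 2, .refl 1, .refl 2, .refl 3], [47, 44]),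
  ([.refl 1, .refl 0, .refl 2, .refl 1, .refl 2, .refl 3], [47]),
  ([.refl 0, .refl 1, .refl 0, .refl 2, .refl 1, .refl 3, .refl 2, .refl 1, .refl 2], [39, 45]),
  ([.refl 2, .mv1 28 24 32 2 1 29 1 1, .refl 2, .refl 1, .refl 2, .refl 3, .mv1 25 27 28 1 1 30 1 2, .refl 2, .refl 3, .mv0 24 30 31 1 1, .refl 0, .refl 1, .refl 2, .refl 1, .refl 3, .refl 2, .refl 1], [39, 45]),
  ([.refl 2, .mv1 34 32 45 2 1 40 1 1, .mv1 28 24 32 2 1 29 1 1, .mv0 39 27 40 1 1, .refl 2, .refl 1, .refl 2, .refl 3, .mv1 25 27 28 1 1 30 1 2, .refl 2, .refl 3, .mv0 24 30 31 1 1, .refl 0, .refl 1, .refl 2, .refl 1, .refl 3, .refl 2, .refl 1], [39, 45]),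
  ([.refl 2, .mv1 37 24 45 2 1 38 1 1, .mv0 36 27 38 1 1, .refl 0, .refl 2, .refl 1, .refl 0, .refl 2, .refl 1, .refl 3, .refl 2, .refl 1, .refl 2], [39, 45]),
  ([.refl 2, .mv1 28 24 32 2 1 29 1 1, .refl 0, .refl 1, .refl 2, .refl 1, .refl 0, .refl 2, .refl 1, .refl 2, .refl 3], [47, 44]),
  ([.refl 2, .mv1 28 24 32 2 1 29 1 1, .refl 2, .refl 1, .refl 0, .refl 2, .refl 1, .refl 3, .refl 2, .refl 1, .refl 0, .refl 2, .mv1 37 24 45 2 1 38 1 1, .mv0 36 27 38 1 1, .refl 0, .refl 2, .refl 1, .refl 0, .refl 2, .refl 1, .refl 3, .refl 2, .refl 1, .refl 2], [39, 45]),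
  ([.refl 2, .mv1 27 43 45 2 1 44 1 1, .refl 1, .refl 0, .refl 2, .refl 1, .refl 2, .refl 3, .refl 2, .refl 1, .refl 0, .refl 2, .mv1 34 32 45 2 1 40 1 1, .mv1 28 24 32 2 1 29 1 1, .mv0 39 27 40 1 1, .refl 2, .refl 1, .refl 2, .refl 3, .mv1 25 27 28 1 1 30 1 2, .refl 2, .refl 3, .mv0 24 30 31 1 1, .refl 0, .refl 1, .refl 2, .refl 1, .refl 3, .refl 2, .refl 1], [39, 45]),
  ([.refl 0, .refl 1, .refl 2, .refl 3, .refl 2, .refl 1, .refl 0, .refl 2, .mv1 28 24 32 2 1 29 1 1, .refl 2, .refl 1, .refl 2, .refl 3, .mv1 25 27 28 1 1 30 1 2, .refl 2, .refl 3, .mv0 24 30 31 1 1, .refl 0, .refl 1, .refl 2, .refl 1, .refl 3, .refl 2, .refl 1], [39, 45]),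
  ([.refl 0, .refl 1, .refl 2, .refl 3, .refl 2, .refl 1, .refl 0, .refl 2, .mv1 34 32 45 2 1 40 1 1, .mv1 28 24 32 2 1 29 1 1, .mv0 39 27 40 1 1, .refl 2, .refl 1, .refl 2, .refl 3, .mv1 25 27 28 1 1 30 1 2, .refl 2, .refl 3, .mv0 24 30 31 1 1, .refl 0, .refl 1, .refl 2, .refl 1, .refl 3, .refl 2, .refl 1], [39, 45]),
  ([.refl 2, .refl 1, .mv1 28 24 32 2 1 29 1 1, .refl 2, .refl 1, .refl 0, .refl 2, .refl 1, .refl 3, .refl 2, .refl 1, .refl 0, .refl 2, .mv1 37 24 45 2 1 38 1 1, .mv0 36 27 38 1 1, .refl 0, .refl 2, .refl 1, .refl 0, .refl 2, .refl 1, .refl 3, .refl 2, .refl 1, .refl 2], [39, 45]),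
  ([.refl 1, .refl 0, .refl 2, .refl 1, .refl 0, .refl 3, .refl 2, .refl 1, .refl 2], [39, 45]),
  ([.refl 2, .refl 1, .refl 0, .mv1 37 24 45 2 1 38 1 1, .mv0 36 27 38 1 1, .refl 0, .refl 2, .refl 1, .refl 0, .refl 2, .refl 1, .refl 3, .refl 2, .refl 1, .refl 2], [39, 45]),
  ([.refl 2, .refl 1, .refl 0, .mv1 34 32 45 2 1 40 1 1, .mv1 28 24 32 2 1 29 1 1, .mv0 39 27 40 1 1, .refl 2, .refl 1, .refl 2, .refl 3, .mv1 25 27 28 1 1 30 1 2, .refl 2, .refl 3, .mv0 24 30 31 1 1, .refl 0, .refl 1, .refl 2, .refl 1, .refl 3, .refl 2, .refl 1], [39, 45]),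
  ([.refl 2, .refl 1, .refl 0, .mv1 28 24 32 2 1 29 1 1, .refl 2, .refl 1, .refl 2, .refl 3, .mv1 25 27 28 1 1 30 1 2, .refl 2, .refl 3, .mv0 24 30 31 1 1, .refl 0, .refl 1, .refl 2, .refl 1, .refl 3, .refl 2, .refl 1], [39, 45]),
  ([.refl 1, .refl 0, .refl 2, .refl 1, .refl 3, .refl 2, .refl 1, .refl 2], [39, 45]),
  ([.refl 0, .refl 2, .mv1 28 24 32 2 1 29 1 1, .refl 2, .refl 1, .refl 2, .refl 3, .mv1 25 27 28 1 1 30 1 2, .refl 2, .refl 3, .mv0 24 30 31 1 1, .refl 0, .refl 1, .refl 2, .refl 1, .refl 3, .refl 2, .refl 1], [39, 45]),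
  ([.refl 0, .refl 2, .mv1 34 32 45 2 1 40 1 1, .mv1 28 24 32 2 1 29 1 1, .mv0 39 27 40 1 1, .refl 2, .refl 1, .refl 2, .refl 3, .mv1 25 27 28 1 1 30 1 2, .refl 2, .refl 3, .mv0 24 30 31 1 1, .refl 0, .refl 1, .refl 2, .refl 1, .refl 3, .refl 2, .refl 1], [39, 45]),
  ([.refl 0, .refl 2, .mv1 37 24 45 2 1 38 1 1, .mv0 36 27 38 1 1, .refl 0, .refl 2, .refl 1, .refl 0, .refl 2, .refl 1, .refl 3, .refl 2, .refl 1, .refl 2], [39, 45]),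
  ([.refl 1, .refl 0, .refl 2, .refl 1, .refl 0, .refl 2, .refl 1, .refl 2], [39, 45]),
  ([.refl 1, .refl 2, .refl 1, .refl 3, .refl 2, .refl 1, .refl 0, .refl 2, .mv1 37 24 45 2 1 38 1 1, .mv0 36 27 38 1 1, .refl 0, .refl 2, .refl 1, .refl 0, .refl 2, .refl 1, .refl 3, .refl 2, .refl 1, .refl 2], [39, 45]),
  ([.refl 1, .refl 2, .refl 1, .refl 3, .refl 2, .refl 1, .refl 0, .refl 2, .mv1 34 32 45 2 1 40 1 1, .mv1 28 24 32 2 1 29 1 1, .mv0 39 27 40 1 1, .refl 2, .refl 1, .refl 2, .refl 3, .mv1 25 27 28 1 1 30 1 2, .refl 2, .refl 3, .mv0 24 30 31 1 1, .refl 0, .refl 1, .refl 2, .refl 1, .refl 3, .refl 2, .refl 1], [39, 45]),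
  ([.refl 1, .refl 2, .refl 1, .refl 3, .refl 2, .refl 1, .refl 0, .refl 2, .mv1 28 24 32 2 1 29 1 1, .refl 2, .refl 1, .refl 2, .refl 3, .mv1 25 27 28 1 1 30 1 2, .refl 2, .refl 3, .mv0 24 30 31 1 1, .refl 0, .refl 1, .refl 2, .refl 1, .refl 3, .refl 2, .refl 1], [39, 45]),
  ([.refl 0, .refl 1, .refl 0, .refl 2, .refl 1], [39, 45]),
  ([.refl 1, .refl 2, .refl 3, .refl 2, .refl 1, .refl 0, .refl 2, .mv1 28 24 32 2 1 29 1 1, .refl 2, .refl 1, .refl 2, .refl 3, .mv1 25 27 28 1 1 30 1 2, .refl 2, .refl 3, .mv0 24 30 31 1 1, .refl 0, .refl 1, .refl 2, .refl 1, .refl 3, .refl 2, .refl 1], [39, 45]),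
  ([.refl 1, .refl 2, .refl 3, .refl 2, .refl 1, .refl 0, .refl 2, .mv1 34 32 45 2 1 40 1 1, .mv1 28 24 32 2 1 29 1 1, .mv0 39 27 40 1 1, .refl 2, .refl 1, .refl 2, .refl 3, .mv1 25 27 28 1 1 30 1 2, .refl 2, .refl 3, .mv0 24 30 31 1 1, .refl 0, .refl 1, .refl 2, .refl 1, .refl 3, .refl 2, .refl 1], [39, 45]),
  ([.refl 1, .refl 2, .refl 3, .refl 2, .refl 1, .refl 0, .refl 2, .mv1 37 24 45 2 1 38 1 1, .mv0 36 27 38 1 1, .refl 0, .refl 2, .refl 1, .refl 0, .refl 2, .refl 1, .refl 3, .refl 2, .refl 1, .refl 2], [39, 45]),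
  ([.refl 0, .refl 2, .mv1 28 24 32 2 1 29 1 1, .refl 0, .refl 1, .refl 2, .refl 1, .refl 0, .refl 2, .refl 1, .refl 2, .refl 3], [47, 44]),
  ([.refl 0, .refl 2, .refl 1, .mv1 28 24 32 2 1 29 1 1, .refl 2, .refl 1, .refl 0, .refl 2, .refl 1, .refl 3, .refl 2, .refl 1, .refl 0, .refl 2, .mv1 37 24 45 2 1 38 1 1, .mv0 36 27 38 1 1, .refl 0, .refl 2, .refl 1, .refl 0, .refl 2, .refl 1, .refl 3, .refl 2, .refl 1, .refl 2], [39, 45]),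
  ([.refl 1, .refl 0, .refl 2, .refl 1], [39, 45]),
  ([.refl 0, .refl 1, .refl 2, .refl 3, .refl 2, .refl 1, .refl 0, .refl 2, .mv1 37 24 45 2 1 38 1 1, .mv0 36 27 38 1 1, .refl 0, .refl 2, .refl 1, .refl 0, .refl 2, .refl 1, .refl 3, .refl 2, .refl 1, .refl 2], [39, 45]),
  ([.refl 2, .refl 1, .refl 0, .mv1 28 24 32 2 1 29 1 1, .refl 0, .refl 1, .refl 2, .refl 1, .refl 0, .refl 2, .refl 1, .refl 2, .refl 3], [47, 44]),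
  ([.refl 0, .refl 2, .refl 1, .refl 3, .refl 2, .refl 1, .refl 0], [44]),
  ([.refl 0, .refl 2, .refl 1, .refl 3, .refl 2, .refl 1, .refl 0, .refl 2, .refl 3], [47, 44]),
  ([.refl 2, .refl 3, .mv0 24 30 31 1 1, .refl 0, .refl 1, .refl 2, .refl 1, .refl 3, .refl 2, .refl 1], [39, 45]),
  ([.refl 0, .refl 1, .refl 2, .refl 3, .mv0 24 46 47 1 1, .refl 2, .refl 1, .refl 0, .refl 2, .refl 1, .refl 2, .mv1 37 24 45 2 1 38 1 1, .mv0 36 27 38 1 1, .refl 0, .refl 2, .refl 1, .refl 0, .refl 2, .refl 1, .refl 3, .refl 2, .refl 1, .refl 2], [39, 45]),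
  ([.refl 0, .refl 1, .refl 3, .refl 2, .refl 1, .refl 0, .mv1 37 24 45 2 1 38 1 1, .mv0 36 27 38 1 1, .refl 0, .refl 2, .refl 1, .refl 0, .refl 2, .refl 1, .refl 3, .refl 2, .refl 1, .refl 2], [39, 45]),
  ([.refl 0, .refl 1, .refl 3, .refl 2, .refl 1, .refl 0, .mv1 34 32 45 2 1 40 1 1, .mv1 28 24 32 2 1 29 1 1, .mv0 39 27 40 1 1, .refl 2, .refl 1, .refl 2, .refl 3, .mv1 25 27 28 1 1 30 1 2, .refl 2, .refl 3, .mv0 24 30 31 1 1, .refl 0, .refl 1, .refl 2, .refl 1, .refl 3, .refl 2, .refl 1], [39, 45]),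
  ([.refl 0, .refl 1, .refl 2, .refl 1, .refl 0, .refl 2, .refl 3, .mv0 24 30 31 1 1, .refl 0, .refl 1, .refl 2, .refl 1, .refl 3, .refl 2, .refl 1], [39, 45]),
  ([.refl 0, .refl 1, .refl 3, .mv0 24 46 47 1 1, .refl 2, .refl 1, .refl 0, .refl 2, .refl 1, .refl 2, .mv1 37 24 45 2 1 38 1 1, .mv0 36 27 38 1 1, .refl 0, .refl 2, .refl 1, .refl 0, .refl 2, .refl 1, .refl 3, .refl 2, .refl 1, .refl 2], [39, 45]),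
  ([.refl 0, .refl 1, .refl 3, .refl 2, .refl 1, .refl 0, .refl 2, .refl 1, .refl 2, .mv1 37 24 45 2 1 38 1 1, .mv0 36 27 38 1 1, .refl 0, .refl 2, .refl 1, .refl 0, .refl 2, .refl 1, .refl 3, .refl 2, .refl 1, .refl 2], [39, 45]),
  ([.refl 0, .refl 2, .refl 1, .refl 2, .refl 3, .refl 2, .refl 1, .refl 0], [47, 44]),
  ([.refl 2, .refl 3, .refl 2, .mv0 24 30 31 1 1, .refl 0, .refl 1, .refl 2, .refl 1, .refl 3, .refl 2, .refl 1], [39, 45]),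
  ([.refl 0, .refl 1, .refl 2, .refl 3, .refl 2, .mv0 24 46 47 1 1, .refl 2, .refl 1, .refl 0, .refl 2, .refl 1, .refl 2, .mv1 37 24 45 2 1 38 1 1, .mv0 36 27 38 1 1, .refl 0, .refl 2, .refl 1, .refl 0, .refl 2, .refl 1, .refl 3, .refl 2, .refl 1, .refl 2], [39, 45]),
  ([.refl 0, .refl 1, .refl 2, .refl 1, .refl 0, .mv1 37 24 45 2 1 38 1 1, .mv0 36 27 38 1 1, .refl 0, .refl 2, .refl 1, .refl 0, .refl 2, .refl 1, .refl 3, .refl 2, .refl 1, .refl 2], [39, 45]),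
  ([.refl 0, .refl 1, .refl 2, .refl 1, .refl 0, .mv1 34 32 45 2 1 40 1 1, .mv1 28 24 32 2 1 29 1 1, .mv0 39 27 40 1 1, .refl 2, .refl 1, .refl 2, .refl 3, .mv1 25 27 28 1 1 30 1 2, .refl 2, .refl 3, .mv0 24 30 31 1 1, .refl 0, .refl 1, .refl 2, .refl 1, .refl 3, .refl 2, .refl 1], [39, 45]),
  ([.refl 0, .refl 1, .refl 2, .refl 1, .refl 0, .refl 2, .refl 1, .refl 2, .mv1 37 24 45 2 1 38 1 1, .mv0 36 27 38 1 1, .refl 0, .refl 2, .refl 1, .refl 0, .refl 2, .refl 1, .refl 3, .refl 2, .refl 1, .refl 2], [39, 45]),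
  ([.refl 0, .refl 1, .refl 3, .refl 2, .refl 1, .refl 0, .refl 2, .refl 3, .mv0 24 30 31 1 1, .refl 0, .refl 1, .refl 2, .refl 1, .refl 3, .refl 2, .refl 1], [39, 45]),
  ([.refl 0, .refl 1, .refl 2, .refl 1, .refl 2, .refl 3, .refl 2, .refl 1, .refl 2], [39, 45]),
  ([.refl 2, .refl 1, .refl 2, .mv1 37 24 45 2 1 38 1 1, .mv0 36 27 38 1 1, .refl 0, .refl 2, .refl 1, .refl 0, .refl 2, .refl 1, .refl 3, .refl 2, .refl 1, .refl 2], [39, 45]),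
  ([.refl 2, .refl 3, .refl 2, .refl 1, .refl 0, .refl 2, .refl 1, .refl 2], [39, 45]),
  ([.refl 0, .refl 1, .refl 3, .refl 2, .refl 1, .refl 0, .mv1 28 24 32 2 1 29 1 1, .refl 2, .refl 1, .refl 2, .refl 3, .mv1 25 27 28 1 1 30 1 2, .refl 2, .refl 3, .mv0 24 30 31 1 1, .refl 0, .refl 1, .refl 2, .refl 1, .refl 3, .refl 2, .refl 1], [39, 45]),
  ([.refl 2, .refl 1, .refl 0, .refl 3, .refl 2, .refl 1, .refl 2], [39, 45]),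
  ([.refl 0, .refl 1, .refl 2, .refl 1, .refl 0, .mv1 28 24 32 2 1 29 1 1, .refl 2, .refl 1, .refl 2, .refl 3, .mv1 25 27 28 1 1 30 1 2, .refl 2, .refl 3, .mv0 24 30 31 1 1, .refl 0, .refl 1, .refl 2, .refl 1, .refl 3, .refl 2, .refl 1], [39, 45]),
  ([.refl 0, .refl 2, .refl 1, .refl 3, .refl 2, .refl 1, .refl 0], [47, 44]),
  ([.refl 0, .refl 1, .refl 2, .refl 1, .refl 0, .refl 2, .refl 3, .refl 2, .mv0 24 30 31 1 1, .refl 0, .refl 1, .refl 2, .refl 1, .refl 3, .refl 2, .refl 1], [39, 45]),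
  ([.refl 0, .refl 1, .refl 2, .refl 3, .refl 2, .refl 1, .refl 0, .refl 2, .refl 3, .mv0 24 30 31 1 1, .refl 0, .refl 1, .refl 2, .refl 1, .refl 3, .refl 2, .refl 1], [39, 45]),
  ([.refl 0, .refl 2, .refl 3, .refl 2, .refl 1, .refl 2], [39, 45]),
  ([.refl 0, .refl 2, .refl 1, .refl 3, .refl 2], [39, 45]),
  ([.refl 0, .refl 1, .refl 3, .refl 2, .refl 1, .refl 0], [44]),
  ([.refl 0, .refl 1, .refl 3, .refl 2, .refl 1, .refl 0, .refl 2, .refl 3], [47, 44]),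
  ([.refl 3, .mv0 24 30 31 1 1, .refl 0, .refl 1, .refl 2, .refl 1, .refl 3, .refl 2, .refl 1], [39, 45]),
  ([.refl 0, .refl 2, .refl 1, .refl 2, .refl 3, .mv0 24 46 47 1 1, .refl 2, .refl 1, .refl 0, .refl 2, .refl 1, .refl 2, .mv1 37 24 45 2 1 38 1 1, .mv0 36 27 38 1 1, .refl 0, .refl 2, .refl 1, .refl 0, .refl 2, .refl 1, .refl 3, .refl 2, .refl 1, .refl 2], [39, 45]),
  ([.refl 0, .refl 2, .refl 1, .refl 3, .refl 2, .refl 1, .refl 0, .mv1 37 24 45 2 1 38 1 1, .mv0 36 27 38 1 1, .refl 0, .refl 2, .refl 1, .refl 0, .refl 2, .refl 1, .refl 3, .refl 2, .refl 1, .refl 2], [39, 45]),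
  ([.refl 0, .refl 2, .refl 1, .refl 3, .refl 2, .refl 1, .refl 0, .mv1 34 32 45 2 1 40 1 1, .mv1 28 24 32 2 1 29 1 1, .mv0 39 27 40 1 1, .refl 2, .refl 1, .refl 2, .refl 3, .mv1 25 27 28 1 1 30 1 2, .refl 2, .refl 3, .mv0 24 30 31 1 1, .refl 0, .refl 1, .refl 2, .refl 1, .refl 3, .refl 2, .refl 1], [39, 45]),
  ([.refl 0, .refl 1, .refl 2, .refl 1, .refl 0, .refl 3, .mv0 24 30 31 1 1, .refl 0, .refl 1, .refl 2, .refl 1, .refl 3, .refl 2, .refl 1], [39, 45]),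
  ([.refl 0, .refl 2, .refl 1, .refl 3, .mv0 24 46 47 1 1, .refl 2, .refl 1, .refl 0, .refl 2, .refl 1, .refl 2, .mv1 37 24 45 2 1 38 1 1, .mv0 36 27 38 1 1, .refl 0, .refl 2, .refl 1, .refl 0, .refl 2, .refl 1, .refl 3, .refl 2, .refl 1, .refl 2], [39, 45]),
  ([.refl 0, .refl 2, .refl 1, .refl 3, .refl 2, .refl 1, .refl 0, .refl 2, .refl 1, .refl 2, .mv1 37 24 45 2 1 38 1 1, .mv0 36 27 38 1 1, .refl 0, .refl 2, .refl 1, .refl 0, .refl 2, .refl 1, .refl 3, .refl 2, .refl 1, .refl 2], [39, 45]),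
  ([.refl 0, .refl 1, .refl 2, .refl 1, .refl 3, .refl 2, .refl 1, .refl 2], [39, 45]),
  ([.refl 1, .refl 2, .mv1 37 24 45 2 1 38 1 1, .mv0 36 27 38 1 1, .refl 0, .refl 2, .refl 1, .refl 0, .refl 2, .refl 1, .refl 3, .refl 2, .refl 1, .refl 2], [39, 45]),
  ([.refl 0, .refl 1, .refl 2, .refl 3, .refl 2, .refl 1, .refl 0], [47, 44]),
  ([.refl 0, .refl 1, .refl 2, .refl 1, .refl 0, .refl 2, .mv1 37 24 45 2 1 38 1 1, .mv0 36 27 38 1 1, .refl 0, .refl 2, .refl 1, .refl 0, .refl 2, .refl 1, .refl 3, .refl 2, .refl 1, .refl 2], [39, 45]),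
  ([.refl 0, .refl 1, .refl 2, .refl 1, .refl 0, .refl 2, .mv1 34 32 45 2 1 40 1 1, .mv1 28 24 32 2 1 29 1 1, .mv0 39 27 40 1 1, .refl 2, .refl 1, .refl 2, .refl 3, .mv1 25 27 28 1 1 30 1 2, .refl 2, .refl 3, .mv0 24 30 31 1 1, .refl 0, .refl 1, .refl 2, .refl 1, .refl 3, .refl 2, .refl 1], [39, 45]),
  ([.refl 0, .refl 1, .refl 0, .refl 2, .refl 1, .refl 0, .refl 2, .mv1 37 24 45 2 1 38 1 1, .mv0 36 27 38 1 1, .refl 0, .refl 2, .refl 1, .refl 0, .refl 2, .refl 1, .refl 3, .refl 2, .refl 1, .refl 2], [39, 45]),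
  ([.refl 0, .refl 2, .refl 1, .refl 3, .refl 2, .refl 1, .refl 0, .refl 2, .refl 3, .mv0 24 30 31 1 1, .refl 0, .refl 1, .refl 2, .refl 1, .refl 3, .refl 2, .refl 1], [39, 45]),
  ([.refl 3, .refl 2, .refl 1, .refl 0, .refl 2, .refl 1, .refl 2], [39, 45]),
  ([.refl 0, .refl 2, .refl 1, .refl 3, .refl 2, .refl 1, .refl 0, .mv1 28 24 32 2 1 29 1 1, .refl 2, .refl 1, .refl 2, .refl 3, .mv1 25 27 28 1 1 30 1 2, .refl 2, .refl 3, .mv0 24 30 31 1 1, .refl 0, .refl 1, .refl 2, .refl 1, .refl 3, .refl 2, .refl 1], [39, 45]),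
  ([.refl 1, .refl 0, .refl 3, .refl 2, .refl 1, .refl 2], [39, 45]),
  ([.refl 0, .refl 1, .refl 2, .refl 1, .refl 0, .refl 2, .mv1 28 24 32 2 1 29 1 1, .refl 2, .refl 1, .refl 2, .refl 3, .mv1 25 27 28 1 1 30 1 2, .refl 2, .refl 3, .mv0 24 30 31 1 1, .refl 0, .refl 1, .refl 2, .refl 1, .refl 3, .refl 2, .refl 1], [39, 45]),
  ([.refl 0, .refl 3, .refl 2, .refl 1, .refl 2], [39, 45]),
  ([.refl 0, .refl 1, .refl 3, .refl 2, .refl 1, .refl 0], [47, 44]),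
  ([.refl 0, .refl 2, .refl 1, .refl 2, .refl 3, .refl 2, .refl 1, .refl 0, .refl 2, .refl 3, .mv0 24 30 31 1 1, .refl 0, .refl 1, .refl 2, .refl 1, .refl 3, .refl 2, .refl 1], [39, 45]),
  ([.refl 0, .refl 1, .refl 3, .refl 2], [39, 45]),
  ([.refl 0, .refl 1, .refl 2, .refl 1, .refl 0], [44]),
  ([.refl 0, .refl 1, .refl 2, .refl 1, .refl 3, .refl 2, .refl 1], [39, 45]),
  ([.refl 1, .refl 3, .refl 2, .mv1 37 24 45 2 1 38 1 1, .mv0 36 27 38 1 1, .refl 0, .refl 2, .refl 1, .refl 0, .refl 2, .refl 1, .refl 3, .refl 2, .refl 1, .refl 2], [39, 45]),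
  ([.refl 0, .refl 1, .refl 2, .refl 1, .refl 0, .refl 2, .refl 3], [47, 44]),
  ([.refl 0, .refl 2, .refl 1, .refl 3, .refl 2, .refl 1, .refl 0, .refl 2, .mv1 37 24 45 2 1 38 1 1, .mv0 36 27 38 1 1, .refl 0, .refl 2, .refl 1, .refl 0, .refl 2, .refl 1, .refl 3, .refl 2, .refl 1, .refl 2], [39, 45]),
  ([.refl 0, .refl 2, .refl 1, .refl 3, .refl 2, .refl 1, .refl 0, .refl 2, .mv1 34 32 45 2 1 40 1 1, .mv1 28 24 32 2 1 29 1 1, .mv0 39 27 40 1 1, .refl 2, .refl 1, .refl 2, .refl 3, .mv1 25 27 28 1 1 30 1 2, .refl 2, .refl 3, .mv0 24 30 31 1 1, .refl 0, .refl 1, .refl 2, .refl 1, .refl 3, .refl 2, .refl 1], [39, 45]),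
  ([.refl 0, .refl 1, .refl 2, .refl 3, .refl 2, .refl 1, .refl 0, .mv0 24 30 31 1 1, .refl 0, .refl 1, .refl 2, .refl 1, .refl 3, .refl 2, .refl 1], [39, 45]),
  ([.refl 0, .refl 2, .refl 3, .refl 2, .refl 1, .mv0 24 46 47 1 1, .refl 2, .refl 1, .refl 0, .refl 2, .refl 1, .refl 2, .mv1 37 24 45 2 1 38 1 1, .mv0 36 27 38 1 1, .refl 0, .refl 2, .refl 1, .refl 0, .refl 2, .refl 1, .refl 3, .refl 2, .refl 1, .refl 2], [39, 45]),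
  ([.refl 0, .refl 2, .refl 1, .refl 0, .refl 3, .refl 2, .refl 1, .refl 0, .refl 2, .mv1 37 24 45 2 1 38 1 1, .mv0 36 27 38 1 1, .refl 0, .refl 2, .refl 1, .refl 0, .refl 2, .refl 1, .refl 3, .refl 2, .refl 1, .refl 2], [39, 45]),
  ([.refl 0, .refl 1, .refl 2, .refl 1, .refl 0, .refl 3], [47, 44]),
  ([.refl 0, .refl 1, .refl 3, .refl 2, .refl 1, .refl 0, .refl 2, .mv1 37 24 45 2 1 38 1 1, .mv0 36 27 38 1 1, .refl 0, .refl 2, .refl 1, .refl 0, .refl 2, .refl 1, .refl 3, .refl 2, .refl 1, .refl 2], [39, 45]),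
  ([.refl 0, .refl 1, .refl 3, .refl 2, .refl 1, .refl 0, .refl 2, .mv1 34 32 45 2 1 40 1 1, .mv1 28 24 32 2 1 29 1 1, .mv0 39 27 40 1 1, .refl 2, .refl 1, .refl 2, .refl 3, .mv1 25 27 28 1 1 30 1 2, .refl 2, .refl 3, .mv0 24 30 31 1 1, .refl 0, .refl 1, .refl 2, .refl 1, .refl 3, .refl 2, .refl 1], [39, 45]),
  ([.refl 0, .refl 1, .refl 0, .refl 3, .refl 2, .refl 1, .refl 0, .refl 2, .mv1 37 24 45 2 1 38 1 1, .mv0 36 27 38 1 1, .refl 0, .refl 2, .refl 1, .refl 0, .refl 2, .refl 1, .refl 3, .refl 2, .refl 1, .refl 2], [39, 45]),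
  ([.refl 0, .refl 2, .refl 1, .refl 2, .refl 3, .refl 2, .refl 1, .refl 0, .mv0 24 30 31 1 1, .refl 0, .refl 1, .refl 2, .refl 1, .refl 3, .refl 2, .refl 1], [39, 45]),
  ([.refl 2, .refl 1, .refl 0, .refl 2, .refl 1, .refl 2], [39, 45]),
  ([.refl 0, .refl 2, .refl 1, .refl 3, .refl 2, .refl 1, .refl 0, .refl 2, .mv1 28 24 32 2 1 29 1 1, .refl 2, .refl 1, .refl 2, .refl 3, .mv1 25 27 28 1 1 30 1 2, .refl 2, .refl 3, .mv0 24 30 31 1 1, .refl 0, .refl 1, .refl 2, .refl 1, .refl 3, .refl 2, .refl 1], [39, 45]),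
  ([.refl 1, .refl 0, .refl 2, .refl 1, .refl 2], [39, 45]),
  ([.refl 0, .refl 1, .refl 3, .refl 2, .refl 1, .refl 0, .refl 2, .mv1 28 24 32 2 1 29 1 1, .refl 2, .refl 1, .refl 2, .refl 3, .mv1 25 27 28 1 1 30 1 2, .refl 2, .refl 3, .mv0 24 30 31 1 1, .refl 0, .refl 1, .refl 2, .refl 1, .refl 3, .refl 2, .refl 1], [39, 45]),
  ([.refl 0, .refl 2, .refl 1, .refl 2], [39, 45]),
  ([.refl 0, .refl 1, .refl 2], [39, 45]),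
  ([.refl 0, .refl 1, .refl 2, .refl 1, .refl 0], [47, 44]),
  ([.refl 0, .refl 3, .refl 2, .refl 1, .refl 2, .refl 3], [47]),
  ([.refl 0, .refl 2, .refl 3, .refl 2, .refl 1, .refl 0, .refl 2, .refl 1, .refl 2], [39, 45]),
  ([.refl 1, .refl 3, .refl 2, .refl 1, .refl 0, .mv1 37 24 45 2 1 38 1 1, .mv0 36 27 38 1 1, .refl 0, .refl 2, .refl 1, .refl 0, .refl 2, .refl 1, .refl 3, .refl 2, .refl 1, .refl 2], [39, 45]),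
  ([.refl 1, .refl 3, .refl 2, .refl 1, .refl 0, .mv1 34 32 45 2 1 40 1 1, .mv1 28 24 32 2 1 29 1 1, .mv0 39 27 40 1 1, .refl 2, .refl 1, .refl 2, .refl 3, .mv1 25 27 28 1 1 30 1 2, .refl 2, .refl 3, .mv0 24 30 31 1 1, .refl 0, .refl 1, .refl 2, .refl 1, .refl 3, .refl 2, .refl 1], [39, 45]),
  ([.refl 1, .refl 3, .refl 2, .refl 1, .refl 0, .mv1 28 24 32 2 1 29 1 1, .refl 2, .refl 1, .refl 2, .refl 3, .mv1 25 27 28 1 1 30 1 2, .refl 2, .refl 3, .mv0 24 30 31 1 1, .refl 0, .refl 1, .refl 2, .refl 1, .refl 3, .refl 2, .refl 1], [39, 45]),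
  ([.refl 0, .refl 3, .refl 2, .refl 1, .refl 0, .refl 2, .refl 1, .refl 2], [39, 45]),
  ([.refl 2, .refl 1, .refl 3, .refl 2, .refl 1, .refl 0, .mv1 37 24 45 2 1 38 1 1, .mv0 36 27 38 1 1, .refl 0, .refl 2, .refl 1, .refl 0, .refl 2, .refl 1, .refl 3, .refl 2, .refl 1, .refl 2], [39, 45]),
  ([.refl 2, .refl 1, .refl 3, .refl 2, .refl 1, .refl 0, .mv1 34 32 45 2 1 40 1 1, .mv1 28 24 32 2 1 29 1 1, .mv0 39 27 40 1 1, .refl 2, .refl 1, .refl 2, .refl 3, .mv1 25 27 28 1 1 30 1 2, .refl 2, .refl 3, .mv0 24 30 31 1 1, .refl 0, .refl 1, .refl 2, .refl 1, .refl 3, .refl 2, .refl 1], [39, 45]),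
  ([.refl 2, .refl 1, .refl 3, .refl 2, .refl 1, .refl 0, .mv1 28 24 32 2 1 29 1 1, .refl 2, .refl 1, .refl 2, .refl 3, .mv1 25 27 28 1 1 30 1 2, .refl 2, .refl 3, .mv0 24 30 31 1 1, .refl 0, .refl 1, .refl 2, .refl 1, .refl 3, .refl 2, .refl 1], [39, 45]),
  ([.refl 0, .refl 2, .refl 1, .refl 3, .refl 2, .refl 1], [39, 45]),
  ([.refl 1, .refl 0, .refl 3, .refl 2, .mv1 28 24 32 2 1 29 1 1, .refl 2, .refl 1, .refl 2, .refl 3, .mv1 25 27 28 1 1 30 1 2, .refl 2, .refl 3, .mv0 24 30 31 1 1, .refl 0, .refl 1, .refl 2, .refl 1, .refl 3, .refl 2, .refl 1], [39, 45]),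
  ([.refl 1, .refl 0, .refl 3, .refl 2, .mv1 34 32 45 2 1 40 1 1, .mv1 28 24 32 2 1 29 1 1, .mv0 39 27 40 1 1, .refl 2, .refl 1, .refl 2, .refl 3, .mv1 25 27 28 1 1 30 1 2, .refl 2, .refl 3, .mv0 24 30 31 1 1, .refl 0, .refl 1, .refl 2, .refl 1, .refl 3, .refl 2, .refl 1], [39, 45]),
  ([.refl 1, .refl 0, .refl 3, .refl 2, .mv1 37 24 45 2 1 38 1 1, .mv0 36 27 38 1 1, .refl 0, .refl 2, .refl 1, .refl 0, .refl 2, .refl 1, .refl 3, .refl 2, .refl 1, .refl 2], [39, 45]),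
  ([.refl 0, .refl 1, .refl 3, .refl 2, .refl 1], [39, 45]),
  ([.refl 2, .refl 1, .refl 0, .refl 3, .refl 2, .mv1 28 24 32 2 1 29 1 1, .refl 2, .refl 1, .refl 2, .refl 3, .mv1 25 27 28 1 1 30 1 2, .refl 2, .refl 3, .mv0 24 30 31 1 1, .refl 0, .refl 1, .refl 2, .refl 1, .refl 3, .refl 2, .refl 1], [39, 45]),
  ([.refl 2, .refl 1, .refl 0, .refl 3, .refl 2, .mv1 34 32 45 2 1 40 1 1, .mv1 28 24 32 2 1 29 1 1, .mv0 39 27 40 1 1, .refl 2, .refl 1, .refl 2, .refl 3, .mv1 25 27 28 1 1 30 1 2, .refl 2, .refl 3, .mv0 24 30 31 1 1, .refl 0, .refl 1, .refl 2, .refl 1, .refl 3, .refl 2, .refl 1], [39, 45]),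
  ([.refl 2, .refl 1, .refl 0, .refl 3, .refl 2, .mv1 37 24 45 2 1 38 1 1, .mv0 36 27 38 1 1, .refl 0, .refl 2, .refl 1, .refl 0, .refl 2, .refl 1, .refl 3, .refl 2, .refl 1, .refl 2], [39, 45]),
  ([.refl 1, .refl 0, .refl 3, .refl 2, .mv1 28 24 32 2 1 29 1 1, .refl 0, .refl 1, .refl 2, .refl 1, .refl 0, .refl 2, .refl 1, .refl 2, .refl 3], [47, 44]),
  ([.refl 1, .refl 0, .refl 3, .refl 2, .refl 1, .mv1 28 24 32 2 1 29 1 1, .refl 2, .refl 1, .refl 0, .refl 2, .refl 1, .refl 3, .refl 2, .refl 1, .refl 0, .refl 2, .mv1 37 24 45 2 1 38 1 1, .mv0 36 27 38 1 1, .refl 0, .refl 2, .refl 1, .refl 0, .refl 2, .refl 1, .refl 3, .refl 2, .refl 1, .refl 2], [39, 45]),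
  ([.refl 0, .refl 3, .refl 2, .refl 1], [39, 45]),
  ([.refl 0, .refl 1, .refl 0, .refl 2, .refl 1, .refl 0, .refl 3, .refl 2, .mv1 37 24 45 2 1 38 1 1, .mv0 36 27 38 1 1, .refl 0, .refl 2, .refl 1, .refl 0, .refl 2, .refl 1, .refl 3, .refl 2, .refl 1, .refl 2], [39, 45]),
  ([.refl 1, .refl 3, .refl 2, .refl 1, .refl 0, .mv1 28 24 32 2 1 29 1 1, .refl 0, .refl 1, .refl 2, .refl 1, .refl 0, .refl 2, .refl 1, .refl 2, .refl 3], [47, 44]),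
  ([.refl 0, .refl 2, .refl 1, .refl 2, .refl 3], [47]),
  ([.refl 0, .refl 2, .refl 1, .refl 0, .refl 3, .refl 2, .refl 1, .refl 2], [39, 45]),
  ([.refl 1, .refl 2, .refl 1, .refl 0, .mv1 37 24 45 2 1 38 1 1, .mv0 36 27 38 1 1, .refl 0, .refl 2, .refl 1, .refl 0, .refl 2, .refl 1, .refl 3, .refl 2, .refl 1, .refl 2], [39, 45]),
  ([.refl 1, .refl 2, .refl 1, .refl 0, .mv1 34 32 45 2 1 40 1 1, .mv1 28 24 32 2 1 29 1 1, .mv0 39 27 40 1 1, .refl 2, .refl 1, .refl 2, .refl 3, .mv1 25 27 28 1 1 30 1 2, .refl 2, .refl 3, .mv0 24 30 31 1 1, .refl 0, .refl 1, .refl 2, .refl 1, .refl 3, .refl 2, .refl 1], [39, 45]),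
  ([.refl 1, .refl 2, .refl 1, .refl 0, .mv1 28 24 32 2 1 29 1 1, .refl 2, .refl 1, .refl 2, .refl 3, .mv1 25 27 28 1 1 30 1 2, .refl 2, .refl 3, .mv0 24 30 31 1 1, .refl 0, .refl 1, .refl 2, .refl 1, .refl 3, .refl 2, .refl 1], [39, 45]),
  ([.refl 0, .refl 2, .refl 1, .refl 0, .refl 2, .refl 1, .refl 2], [39, 45]),
  ([.refl 2, .refl 1, .refl 3, .refl 2, .refl 1, .refl 0, .refl 2, .mv1 37 24 45 2 1 38 1 1, .mv0 36 27 38 1 1, .refl 0, .refl 2, .refl 1, .refl 0, .refl 2, .refl 1, .refl 3, .refl 2, .refl 1, .refl 2], [39, 45]),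
  ([.refl 2, .refl 1, .refl 3, .refl 2, .refl 1, .refl 0, .refl 2, .mv1 34 32 45 2 1 40 1 1, .mv1 28 24 32 2 1 29 1 1, .mv0 39 27 40 1 1, .refl 2, .refl 1, .refl 2, .refl 3, .mv1 25 27 28 1 1 30 1 2, .refl 2, .refl 3, .mv0 24 30 31 1 1, .refl 0, .refl 1, .refl 2, .refl 1, .refl 3, .refl 2, .refl 1], [39, 45]),
  ([.refl 2, .refl 1, .refl 3, .refl 2, .refl 1, .refl 0, .refl 2, .mv1 28 24 32 2 1 29 1 1, .refl 2, .refl 1, .refl 2, .refl 3, .mv1 25 27 28 1 1 30 1 2, .refl 2, .refl 3, .mv0 24 30 31 1 1, .refl 0, .refl 1, .refl 2, .refl 1, .refl 3, .refl 2, .refl 1], [39, 45]),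
  ([.refl 0, .refl 2, .refl 1, .refl 3, .refl 2, .refl 1, .refl 2], [39, 45]),
  ([.refl 1, .refl 0, .refl 2, .mv1 28 24 32 2 1 29 1 1, .refl 2, .refl 1, .refl 2, .refl 3, .mv1 25 27 28 1 1 30 1 2, .refl 2, .refl 3, .mv0 24 30 31 1 1, .refl 0, .refl 1, .refl 2, .refl 1, .refl 3, .refl 2, .refl 1], [39, 45]),
  ([.refl 1, .refl 0, .refl 2, .mv1 34 32 45 2 1 40 1 1, .mv1 28 24 32 2 1 29 1 1, .mv0 39 27 40 1 1, .refl 2, .refl 1, .refl 2, .refl 3, .mv1 25 27 28 1 1 30 1 2, .refl 2, .refl 3, .mv0 24 30 31 1 1, .refl 0, .refl 1, .refl 2, .refl 1, .refl 3, .refl 2, .refl 1], [39, 45]),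
  ([.refl 1, .refl 0, .refl 2, .mv1 37 24 45 2 1 38 1 1, .mv0 36 27 38 1 1, .refl 0, .refl 2, .refl 1, .refl 0, .refl 2, .refl 1, .refl 3, .refl 2, .refl 1, .refl 2], [39, 45]),
  ([.refl 0, .refl 1, .refl 2, .refl 1], [39, 45]),
  ([.refl 2, .refl 3, .refl 2, .refl 1, .refl 0, .refl 2, .mv1 28 24 32 2 1 29 1 1, .refl 2, .refl 1, .refl 2, .refl 3, .mv1 25 27 28 1 1 30 1 2, .refl 2, .refl 3, .mv0 24 30 31 1 1, .refl 0, .refl 1, .refl 2, .refl 1, .refl 3, .refl 2, .refl 1], [39, 45]),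
  ([.refl 2, .refl 3, .refl 2, .refl 1, .refl 0, .refl 2, .mv1 34 32 45 2 1 40 1 1, .mv1 28 24 32 2 1 29 1 1, .mv0 39 27 40 1 1, .refl 2, .refl 1, .refl 2, .refl 3, .mv1 25 27 28 1 1 30 1 2, .refl 2, .refl 3, .mv0 24 30 31 1 1, .refl 0, .refl 1, .refl 2, .refl 1, .refl 3, .refl 2, .refl 1], [39, 45]),
  ([.refl 2, .refl 3, .refl 2, .refl 1, .refl 0, .refl 2, .mv1 37 24 45 2 1 38 1 1, .mv0 36 27 38 1 1, .refl 0, .refl 2, .refl 1, .refl 0, .refl 2, .refl 1, .refl 3, .refl 2, .refl 1, .refl 2], [39, 45]),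
  ([.refl 1, .refl 0, .refl 2, .mv1 28 24 32 2 1 29 1 1, .refl 0, .refl 1, .refl 2, .refl 1, .refl 0, .refl 2, .refl 1, .refl 2, .refl 3], [47, 44]),
  ([.refl 1, .refl 0, .refl 2, .refl 1, .mv1 28 24 32 2 1 29 1 1, .refl 2, .refl 1, .refl 0, .refl 2, .refl 1, .refl 3, .refl 2, .refl 1, .refl 0, .refl 2, .mv1 37 24 45 2 1 38 1 1, .mv0 36 27 38 1 1, .refl 0, .refl 2, .refl 1, .refl 0, .refl 2, .refl 1, .refl 3, .refl 2, .refl 1, .refl 2], [39, 45]),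
  ([.refl 0, .refl 2, .refl 1], [39, 45]),
  ([.refl 0, .refl 1, .refl 0, .refl 2, .refl 3, .refl 2, .refl 1, .refl 0, .refl 2, .mv1 37 24 45 2 1 38 1 1, .mv0 36 27 38 1 1, .refl 0, .refl 2, .refl 1, .refl 0, .refl 2, .refl 1, .refl 3, .refl 2, .refl 1, .refl 2], [39, 45]),
  ([.refl 1, .refl 2, .refl 1, .refl 0, .mv1 28 24 32 2 1 29 1 1, .refl 0, .refl 1, .refl 2, .refl 1, .refl 0, .refl 2, .refl 1, .refl 2, .refl 3], [47, 44]),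
  ([.refl 0, .refl 1, .refl 2, .refl 3], [47]),
  ([.refl 0, .refl 1, .refl 0, .refl 3, .refl 2, .refl 1, .refl 2], [39, 45]),
  ([.refl 1, .refl 2, .refl 1, .refl 0, .refl 2, .mv1 37 24 45 2 1 38 1 1, .mv0 36 27 38 1 1, .refl 0, .refl 2, .refl 1, .refl 0, .refl 2, .refl 1, .refl 3, .refl 2, .refl 1, .refl 2], [39, 45]),
  ([.refl 1, .refl 2, .refl 1, .refl 0, .refl 2, .mv1 34 32 45 2 1 40 1 1, .mv1 28 24 32 2 1 29 1 1, .mv0 39 27 40 1 1, .refl 2, .refl 1, .refl 2, .refl 3, .mv1 25 27 28 1 1 30 1 2, .refl 2, .refl 3, .mv0 24 30 31 1 1, .refl 0, .refl 1, .refl 2, .refl 1, .refl 3, .refl 2, .refl 1], [39, 45]),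
  ([.refl 1, .refl 2, .refl 1, .refl 0, .refl 2, .mv1 28 24 32 2 1 29 1 1, .refl 2, .refl 1, .refl 2, .refl 3, .mv1 25 27 28 1 1 30 1 2, .refl 2, .refl 3, .mv0 24 30 31 1 1, .refl 0, .refl 1, .refl 2, .refl 1, .refl 3, .refl 2, .refl 1], [39, 45]),
  ([.refl 0, .refl 1, .refl 0, .refl 2, .refl 1, .refl 2], [39, 45]),
  ([.refl 1, .refl 3, .refl 2, .refl 1, .refl 0, .refl 2, .mv1 37 24 45 2 1 38 1 1, .mv0 36 27 38 1 1, .refl 0, .refl 2, .refl 1, .refl 0, .refl 2, .refl 1, .refl 3, .refl 2, .refl 1, .refl 2], [39, 45]),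
  ([.refl 1, .refl 3, .refl 2, .refl 1, .refl 0, .refl 2, .mv1 34 32 45 2 1 40 1 1, .mv1 28 24 32 2 1 29 1 1, .mv0 39 27 40 1 1, .refl 2, .refl 1, .refl 2, .refl 3, .mv1 25 27 28 1 1 30 1 2, .refl 2, .refl 3, .mv0 24 30 31 1 1, .refl 0, .refl 1, .refl 2, .refl 1, .refl 3, .refl 2, .refl 1], [39, 45]),
  ([.refl 1, .refl 3, .refl 2, .refl 1, .refl 0, .refl 2, .mv1 28 24 32 2 1 29 1 1, .refl 2, .refl 1, .refl 2, .refl 3, .mv1 25 27 28 1 1 30 1 2, .refl 2, .refl 3, .mv0 24 30 31 1 1, .refl 0, .refl 1, .refl 2, .refl 1, .refl 3, .refl 2, .refl 1], [39, 45]),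
  ([.refl 0, .refl 1, .refl 3, .refl 2, .refl 1, .refl 2], [39, 45]),
  ([.refl 2, .refl 1, .refl 0, .refl 2, .mv1 28 24 32 2 1 29 1 1, .refl 2, .refl 1, .refl 2, .refl 3, .mv1 25 27 28 1 1 30 1 2, .refl 2, .refl 3, .mv0 24 30 31 1 1, .refl 0, .refl 1, .refl 2, .refl 1, .refl 3, .refl 2, .refl 1], [39, 45]),
  ([.refl 2, .refl 1, .refl 0, .refl 2, .mv1 34 32 45 2 1 40 1 1, .mv1 28 24 32 2 1 29 1 1, .mv0 39 27 40 1 1, .refl 2, .refl 1, .refl 2, .refl 3, .mv1 25 27 28 1 1 30 1 2, .refl 2, .refl 3, .mv0 24 30 31 1 1, .refl 0, .refl 1, .refl 2, .refl 1, .refl 3, .refl 2, .refl 1], [39, 45]),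
  ([.refl 2, .refl 1, .refl 0, .refl 2, .mv1 37 24 45 2 1 38 1 1, .mv0 36 27 38 1 1, .refl 0, .refl 2, .refl 1, .refl 0, .refl 2, .refl 1, .refl 3, .refl 2, .refl 1, .refl 2], [39, 45]),
  ([.refl 0, .refl 1, .refl 2, .refl 1, .refl 2], [39, 45]),
  ([.refl 3, .refl 2, .refl 1, .refl 0, .refl 2, .mv1 28 24 32 2 1 29 1 1, .refl 2, .refl 1, .refl 2, .refl 3, .mv1 25 27 28 1 1 30 1 2, .refl 2, .refl 3, .mv0 24 30 31 1 1, .refl 0, .refl 1, .refl 2, .refl 1, .refl 3, .refl 2, .refl 1], [39, 45]),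
  ([.refl 3, .refl 2, .refl 1, .refl 0, .refl 2, .mv1 34 32 45 2 1 40 1 1, .mv1 28 24 32 2 1 29 1 1, .mv0 39 27 40 1 1, .refl 2, .refl 1, .refl 2, .refl 3, .mv1 25 27 28 1 1 30 1 2, .refl 2, .refl 3, .mv0 24 30 31 1 1, .refl 0, .refl 1, .refl 2, .refl 1, .refl 3, .refl 2, .refl 1], [39, 45]),
  ([.refl 3, .refl 2, .refl 1, .refl 0, .refl 2, .mv1 37 24 45 2 1 38 1 1, .mv0 36 27 38 1 1, .refl 0, .refl 2, .refl 1, .refl 0, .refl 2, .refl 1, .refl 3, .refl 2, .refl 1, .refl 2], [39, 45]),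
  ([.refl 2, .refl 1, .refl 0, .refl 2, .mv1 28 24 32 2 1 29 1 1, .refl 0, .refl 1, .refl 2, .refl 1, .refl 0, .refl 2, .refl 1, .refl 2, .refl 3], [47, 44]),
  ([.refl 2, .refl 1, .refl 0, .refl 2, .refl 1, .mv1 28 24 32 2 1 29 1 1, .refl 2, .refl 1, .refl 0, .refl 2, .refl 1, .refl 3, .refl 2, .refl 1, .refl 0, .refl 2, .mv1 37 24 45 2 1 38 1 1, .mv0 36 27 38 1 1, .refl 0, .refl 2, .refl 1, .refl 0, .refl 2, .refl 1, .refl 3, .refl 2, .refl 1, .refl 2], [39, 45]),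
  ([.refl 0, .refl 1], [39, 45]),
  ([.refl 0, .refl 2, .refl 1, .refl 0, .refl 2, .refl 3, .refl 2, .refl 1, .refl 0, .refl 2, .mv1 37 24 45 2 1 38 1 1, .mv0 36 27 38 1 1, .refl 0, .refl 2, .refl 1, .refl 0, .refl 2, .refl 1, .refl 3, .refl 2, .refl 1, .refl 2], [39, 45]),
  ([.refl 1, .refl 2, .refl 1, .refl 0, .refl 2, .mv1 28 24 32 2 1 29 1 1, .refl 0, .refl 1, .refl 2, .refl 1, .refl 0, .refl 2, .refl 1, .refl 2, .refl 3], [47, 44]),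
  ([.refl 1, .refl 2, .refl 1, .refl 3, .refl 2, .refl 1, .refl 0], [44]),
  ([.refl 1, .refl 2, .refl 1, .refl 3, .refl 2, .refl 1, .refl 0, .refl 2, .refl 3], [47, 44]),
  ([.refl 1, .refl 0, .refl 2, .refl 3, .mv0 24 30 31 1 1, .refl 0, .refl 1, .refl 2, .refl 1, .refl 3, .refl 2, .refl 1], [39, 45]),
  ([.refl 2, .refl 3, .mv0 24 46 47 1 1, .refl 2, .refl 1, .refl 0, .refl 2, .refl 1, .refl 2, .mv1 37 24 45 2 1 38 1 1, .mv0 36 27 38 1 1, .refl 0, .refl 2, .refl 1, .refl 0, .refl 2, .refl 1, .refl 3, .refl 2, .refl 1, .refl 2], [39, 45]),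
  ([.refl 2, .refl 1, .refl 0, .refl 2, .refl 3, .mv0 24 30 31 1 1, .refl 0, .refl 1, .refl 2, .refl 1, .refl 3, .refl 2, .refl 1], [39, 45]),
  ([.refl 3, .mv0 24 46 47 1 1, .refl 2, .refl 1, .refl 0, .refl 2, .refl 1, .refl 2, .mv1 37 24 45 2 1 38 1 1, .mv0 36 27 38 1 1, .refl 0, .refl 2, .refl 1, .refl 0, .refl 2, .refl 1, .refl 3, .refl 2, .refl 1, .refl 2], [39, 45]),
  ([.refl 3, .refl 2, .refl 1, .refl 0, .refl 2, .refl 1, .refl 2, .mv1 37 24 45 2 1 38 1 1, .mv0 36 27 38 1 1, .refl 0, .refl 2, .refl 1, .refl 0, .refl 2, .refl 1, .refl 3, .refl 2, .refl 1, .refl 2], [39, 45]),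
  ([.refl 1, .refl 2, .refl 1, .refl 2, .refl 3, .refl 2, .refl 1, .refl 0], [47, 44]),
  ([.refl 1, .refl 0, .refl 2, .refl 3, .refl 2, .mv0 24 30 31 1 1, .refl 0, .refl 1, .refl 2, .refl 1, .refl 3, .refl 2, .refl 1], [39, 45]),
  ([.refl 2, .refl 3, .refl 2, .mv0 24 46 47 1 1, .refl 2, .refl 1, .refl 0, .refl 2, .refl 1, .refl 2, .mv1 37 24 45 2 1 38 1 1, .mv0 36 27 38 1 1, .refl 0, .refl 2, .refl 1, .refl 0, .refl 2, .refl 1, .refl 3, .refl 2, .refl 1, .refl 2], [39, 45]),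
  ([.refl 2, .refl 1, .refl 0, .refl 2, .refl 1, .refl 2, .mv1 37 24 45 2 1 38 1 1, .mv0 36 27 38 1 1, .refl 0, .refl 2, .refl 1, .refl 0, .refl 2, .refl 1, .refl 3, .refl 2, .refl 1, .refl 2], [39, 45]),
  ([.refl 3, .refl 2, .refl 1, .refl 0, .refl 2, .refl 3, .mv0 24 30 31 1 1, .refl 0, .refl 1, .refl 2, .refl 1, .refl 3, .refl 2, .refl 1], [39, 45]),
  ([.refl 1, .refl 2, .refl 1, .refl 3, .refl 2, .refl 1, .refl 0], [47, 44]),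
  ([.refl 1, .refl 0, .refl 2, .refl 1, .refl 2, .mv1 37 24 45 2 1 38 1 1, .mv0 36 27 38 1 1, .refl 0, .refl 2, .refl 1, .refl 0, .refl 2, .refl 1, .refl 3, .refl 2, .refl 1, .refl 2], [39, 45]),
  ([.refl 2, .refl 1, .refl 0, .refl 2, .refl 3, .refl 2, .mv0 24 30 31 1 1, .refl 0, .refl 1, .refl 2, .refl 1, .refl 3, .refl 2, .refl 1], [39, 45]),
  ([.refl 2, .refl 3, .refl 2, .refl 1, .refl 0, .refl 2, .refl 3, .mv0 24 30 31 1 1, .refl 0, .refl 1, .refl 2, .refl 1, .refl 3, .refl 2, .refl 1], [39, 45]),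
  ([.refl 2, .refl 1, .refl 2, .refl 3, .refl 2, .refl 1, .refl 2], [39, 45]),
  ([.refl 1, .refl 2, .refl 3, .refl 2, .refl 1, .refl 2], [39, 45]),
  ([.refl 1, .refl 2, .refl 1, .refl 3, .refl 2], [39, 45]),
  ([.refl 2, .refl 1, .refl 3, .refl 2, .refl 1, .refl 0], [44]),
  ([.refl 2, .refl 1, .refl 3, .refl 2, .refl 1, .refl 0, .refl 2, .refl 3], [47, 44]),
  ([.refl 0, .refl 2, .refl 3, .mv0 24 30 31 1 1, .refl 0, .refl 1, .refl 2, .refl 1, .refl 3, .refl 2, .refl 1], [39, 45]),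
  ([.refl 1, .refl 2, .refl 3, .mv0 24 46 47 1 1, .refl 2, .refl 1, .refl 0, .refl 2, .refl 1, .refl 2, .mv1 37 24 45 2 1 38 1 1, .mv0 36 27 38 1 1, .refl 0, .refl 2, .refl 1, .refl 0, .refl 2, .refl 1, .refl 3, .refl 2, .refl 1, .refl 2], [39, 45]),
  ([.refl 1, .refl 2, .refl 1, .refl 0, .refl 2, .refl 3, .mv0 24 30 31 1 1, .refl 0, .refl 1, .refl 2, .refl 1, .refl 3, .refl 2, .refl 1], [39, 45]),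
  ([.refl 1, .refl 3, .mv0 24 46 47 1 1, .refl 2, .refl 1, .refl 0, .refl 2, .refl 1, .refl 2, .mv1 37 24 45 2 1 38 1 1, .mv0 36 27 38 1 1, .refl 0, .refl 2, .refl 1, .refl 0, .refl 2, .refl 1, .refl 3, .refl 2, .refl 1, .refl 2], [39, 45]),
  ([.refl 1, .refl 3, .refl 2, .refl 1, .refl 0, .refl 2, .refl 1, .refl 2, .mv1 37 24 45 2 1 38 1 1, .mv0 36 27 38 1 1, .refl 0, .refl 2, .refl 1, .refl 0, .refl 2, .refl 1, .refl 3, .refl 2, .refl 1, .refl 2], [39, 45]),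
  ([.refl 2, .refl 1, .refl 2, .refl 3, .refl 2, .refl 1, .refl 0], [47, 44]),
  ([.refl 0, .refl 2, .refl 3, .refl 2, .mv0 24 30 31 1 1, .refl 0, .refl 1, .refl 2, .refl 1, .refl 3, .refl 2, .refl 1], [39, 45]),
  ([.refl 1, .refl 2, .refl 3, .refl 2, .mv0 24 46 47 1 1, .refl 2, .refl 1, .refl 0, .refl 2, .refl 1, .refl 2, .mv1 37 24 45 2 1 38 1 1, .mv0 36 27 38 1 1, .refl 0, .refl 2, .refl 1, .refl 0, .refl 2, .refl 1, .refl 3, .refl 2, .refl 1, .refl 2], [39, 45]),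
  ([.refl 1, .refl 2, .refl 1, .refl 0, .refl 2, .refl 1, .refl 2, .mv1 37 24 45 2 1 38 1 1, .mv0 36 27 38 1 1, .refl 0, .refl 2, .refl 1, .refl 0, .refl 2, .refl 1, .refl 3, .refl 2, .refl 1, .refl 2], [39, 45]),
  ([.refl 1, .refl 3, .refl 2, .refl 1, .refl 0, .refl 2, .refl 3, .mv0 24 30 31 1 1, .refl 0, .refl 1, .refl 2, .refl 1, .refl 3, .refl 2, .refl 1], [39, 45]),
  ([.refl 1, .refl 2, .refl 1, .refl 2, .refl 3, .refl 2, .refl 1, .refl 2], [39, 45]),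
  ([.refl 0, .refl 2, .refl 1, .refl 2, .mv1 37 24 45 2 1 38 1 1, .mv0 36 27 38 1 1, .refl 0, .refl 2, .refl 1, .refl 0, .refl 2, .refl 1, .refl 3, .refl 2, .refl 1, .refl 2], [39, 45]),
  ([.refl 2, .refl 1, .refl 3, .refl 2, .refl 1, .refl 0], [47, 44]),
  ([.refl 1, .refl 2, .refl 1, .refl 0, .refl 2, .refl 3, .refl 2, .mv0 24 30 31 1 1, .refl 0, .refl 1, .refl 2, .refl 1, .refl 3, .refl 2, .refl 1], [39, 45]),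
  ([.refl 1, .refl 2, .refl 3, .refl 2, .refl 1, .refl 0, .refl 2, .refl 3, .mv0 24 30 31 1 1, .refl 0, .refl 1, .refl 2, .refl 1, .refl 3, .refl 2, .refl 1], [39, 45]),
  ([.refl 2, .refl 3, .refl 2, .refl 1, .refl 2], [39, 45]),
  ([.refl 2, .refl 1, .refl 3, .refl 2], [39, 45]),
  ([.refl 1, .refl 3, .refl 2, .refl 1, .refl 0], [44]),
  ([.refl 1, .refl 3, .refl 2, .refl 1, .refl 0, .refl 2, .refl 3], [47, 44]),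
  ([.refl 0, .refl 3, .mv0 24 30 31 1 1, .refl 0, .refl 1, .refl 2, .refl 1, .refl 3, .refl 2, .refl 1], [39, 45]),
  ([.refl 2, .refl 1, .refl 2, .refl 3, .mv0 24 46 47 1 1, .refl 2, .refl 1, .refl 0, .refl 2, .refl 1, .refl 2, .mv1 37 24 45 2 1 38 1 1, .mv0 36 27 38 1 1, .refl 0, .refl 2, .refl 1, .refl 0, .refl 2, .refl 1, .refl 3, .refl 2, .refl 1, .refl 2], [39, 45]),
  ([.refl 1, .refl 2, .refl 1, .refl 0, .refl 3, .mv0 24 30 31 1 1, .refl 0, .refl 1, .refl 2, .refl 1, .refl 3, .refl 2, .refl 1], [39, 45]),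
  ([.refl 2, .refl 1, .refl 3, .mv0 24 46 47 1 1, .refl 2, .refl 1, .refl 0, .refl 2, .refl 1, .refl 2, .mv1 37 24 45 2 1 38 1 1, .mv0 36 27 38 1 1, .refl 0, .refl 2, .refl 1, .refl 0, .refl 2, .refl 1, .refl 3, .refl 2, .refl 1, .refl 2], [39, 45]),
  ([.refl 2, .refl 1, .refl 3, .refl 2, .refl 1, .refl 0, .refl 2, .refl 1, .refl 2, .mv1 37 24 45 2 1 38 1 1, .mv0 36 27 38 1 1, .refl 0, .refl 2, .refl 1, .refl 0, .refl 2, .refl 1, .refl 3, .refl 2, .refl 1, .refl 2], [39, 45]),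
  ([.refl 1, .refl 2, .refl 1, .refl 3, .refl 2, .refl 1, .refl 2], [39, 45]),
  ([.refl 0, .refl 1, .refl 2, .mv1 37 24 45 2 1 38 1 1, .mv0 36 27 38 1 1, .refl 0, .refl 2, .refl 1, .refl 0, .refl 2, .refl 1, .refl 3, .refl 2, .refl 1, .refl 2], [39, 45]),
  ([.refl 1, .refl 2, .refl 3, .refl 2, .refl 1, .refl 0], [47, 44]),
  ([.refl 1, .refl 0, .refl 2, .refl 1, .refl 0, .refl 2, .mv1 37 24 45 2 1 38 1 1, .mv0 36 27 38 1 1, .refl 0, .refl 2, .refl 1, .refl 0, .refl 2, .refl 1, .refl 3, .refl 2, .refl 1, .refl 2], [39, 45]),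
  ([.refl 2, .refl 1, .refl 3, .refl 2, .refl 1, .refl 0, .refl 2, .refl 3, .mv0 24 30 31 1 1, .refl 0, .refl 1, .refl 2, .refl 1, .refl 3, .refl 2, .refl 1], [39, 45]),
  ([.refl 3, .refl 2, .refl 1, .refl 2], [39, 45]),
  ([.refl 1, .refl 3, .refl 2, .refl 1, .refl 0], [47, 44]),
  ([.refl 2, .refl 1, .refl 2, .refl 3, .refl 2, .refl 1, .refl 0, .refl 2, .refl 3, .mv0 24 30 31 1 1, .refl 0, .refl 1, .refl 2, .refl 1, .refl 3, .refl 2, .refl 1], [39, 45]),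
  ([.refl 1, .refl 3, .refl 2], [39, 45]),
  ([.refl 1, .refl 2, .refl 1, .refl 0], [44]),
  ([.refl 1, .refl 2, .refl 1, .refl 3, .refl 2, .refl 1], [39, 45]),
  ([.refl 0, .refl 1, .refl 3, .refl 2, .mv1 37 24 45 2 1 38 1 1, .mv0 36 27 38 1 1, .refl 0, .refl 2, .refl 1, .refl 0, .refl 2, .refl 1, .refl 3, .refl 2, .refl 1, .refl 2], [39, 45]),
  ([.refl 1, .refl 2, .refl 1, .refl 0, .refl 2, .refl 3], [47, 44]),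
  ([.refl 1, .refl 2, .refl 3, .refl 2, .refl 1, .refl 0, .mv0 24 30 31 1 1, .refl 0, .refl 1, .refl 2, .refl 1, .refl 3, .refl 2, .refl 1], [39, 45]),
  ([.refl 2, .refl 3, .refl 2, .refl 1, .mv0 24 46 47 1 1, .refl 2, .refl 1, .refl 0, .refl 2, .refl 1, .refl 2, .mv1 37 24 45 2 1 38 1 1, .mv0 36 27 38 1 1, .refl 0, .refl 2, .refl 1, .refl 0, .refl 2, .refl 1, .refl 3, .refl 2, .refl 1, .refl 2], [39, 45]),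
  ([.refl 2, .refl 1, .refl 0, .refl 3, .refl 2, .refl 1, .refl 0, .refl 2, .mv1 37 24 45 2 1 38 1 1, .mv0 36 27 38 1 1, .refl 0, .refl 2, .refl 1, .refl 0, .refl 2, .refl 1, .refl 3, .refl 2, .refl 1, .refl 2], [39, 45]),
  ([.refl 1, .refl 2, .refl 1, .refl 0, .refl 3], [47, 44]),
  ([.refl 1, .refl 0, .refl 3, .refl 2, .refl 1, .refl 0, .refl 2, .mv1 37 24 45 2 1 38 1 1, .mv0 36 27 38 1 1, .refl 0, .refl 2, .refl 1, .refl 0, .refl 2, .refl 1, .refl 3, .refl 2, .refl 1, .refl 2], [39, 45]),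
  ([.refl 2, .refl 1, .refl 2, .refl 3, .refl 2, .refl 1, .refl 0, .mv0 24 30 31 1 1, .refl 0, .refl 1, .refl 2, .refl 1, .refl 3, .refl 2, .refl 1], [39, 45]),
  ([.refl 2, .refl 1, .refl 2], [39, 45]),
  ([.refl 1, .refl 2], [39, 45]),
  ([.refl 1, .refl 2, .refl 1, .refl 0], [47, 44]),
  ([.refl 3, .refl 2, .refl 1, .refl 0], [44]),
  ([.refl 3, .refl 2, .refl 1, .refl 0, .refl 2, .refl 3], [47, 44]),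
  ([.refl 1, .refl 0, .refl 3, .mv0 24 30 31 1 1, .refl 0, .refl 1, .refl 2, .refl 1, .refl 3, .refl 2, .refl 1], [39, 45]),
  ([.refl 1, .refl 2, .refl 1, .refl 2, .refl 3, .mv0 24 46 47 1 1, .refl 2, .refl 1, .refl 0, .refl 2, .refl 1, .refl 2, .mv1 37 24 45 2 1 38 1 1, .mv0 36 27 38 1 1, .refl 0, .refl 2, .refl 1, .refl 0, .refl 2, .refl 1, .refl 3, .refl 2, .refl 1, .refl 2], [39, 45]),
  ([.refl 2, .refl 1, .refl 0, .refl 3, .mv0 24 30 31 1 1, .refl 0, .refl 1, .refl 2, .refl 1, .refl 3, .refl 2, .refl 1], [39, 45]),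
  ([.refl 1, .refl 2, .refl 1, .refl 3, .mv0 24 46 47 1 1, .refl 2, .refl 1, .refl 0, .refl 2, .refl 1, .refl 2, .mv1 37 24 45 2 1 38 1 1, .mv0 36 27 38 1 1, .refl 0, .refl 2, .refl 1, .refl 0, .refl 2, .refl 1, .refl 3, .refl 2, .refl 1, .refl 2], [39, 45]),
  ([.refl 1, .refl 2, .refl 1, .refl 3, .refl 2, .refl 1, .refl 0, .refl 2, .refl 1, .refl 2, .mv1 37 24 45 2 1 38 1 1, .mv0 36 27 38 1 1, .refl 0, .refl 2, .refl 1, .refl 0, .refl 2, .refl 1, .refl 3, .refl 2, .refl 1, .refl 2], [39, 45]),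
  ([.refl 2, .refl 1, .refl 3, .refl 2, .refl 1, .refl 2], [39, 45]),
  ([.refl 0, .refl 1, .refl 0, .refl 2, .mv1 37 24 45 2 1 38 1 1, .mv0 36 27 38 1 1, .refl 0, .refl 2, .refl 1, .refl 0, .refl 2, .refl 1, .refl 3, .refl 2, .refl 1, .refl 2], [39, 45]),
  ([.refl 1, .refl 3, .refl 2, .refl 1, .refl 2], [39, 45]),
  ([.refl 0, .refl 2, .refl 1, .refl 0, .refl 2, .mv1 37 24 45 2 1 38 1 1, .mv0 36 27 38 1 1, .refl 0, .refl 2, .refl 1, .refl 0, .refl 2, .refl 1, .refl 3, .refl 2, .refl 1, .refl 2], [39, 45]),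
  ([.refl 2, .refl 3, .refl 2, .refl 1, .refl 0], [47, 44]),
  ([.refl 1, .refl 2, .refl 1, .refl 3, .refl 2, .refl 1, .refl 0, .refl 2, .refl 3, .mv0 24 30 31 1 1, .refl 0, .refl 1, .refl 2, .refl 1, .refl 3, .refl 2, .refl 1], [39, 45]),
  ([.refl 3, .refl 2, .refl 1, .refl 0], [47, 44]),
  ([.refl 1, .refl 2, .refl 1, .refl 2, .refl 3, .refl 2, .refl 1, .refl 0, .refl 2, .refl 3, .mv0 24 30 31 1 1, .refl 0, .refl 1, .refl 2, .refl 1, .refl 3, .refl 2, .refl 1], [39, 45]),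
  ([.refl 3, .refl 2], [39, 45]),
  ([.refl 2, .refl 1, .refl 0], [44]),
  ([.refl 2, .refl 1, .refl 3, .refl 2, .refl 1], [39, 45]),
  ([.refl 0, .refl 1, .refl 0, .refl 3, .refl 2, .mv1 37 24 45 2 1 38 1 1, .mv0 36 27 38 1 1, .refl 0, .refl 2, .refl 1, .refl 0, .refl 2, .refl 1, .refl 3, .refl 2, .refl 1, .refl 2], [39, 45]),
  ([.refl 2, .refl 1, .refl 0, .refl 2, .refl 3], [47, 44]),
  ([.refl 2, .refl 3, .refl 2, .refl 1, .refl 0, .mv0 24 30 31 1 1, .refl 0, .refl 1, .refl 2, .refl 1, .refl 3, .refl 2, .refl 1], [39, 45]),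
  ([.refl 1, .refl 2, .refl 3, .refl 2, .refl 1, .mv0 24 46 47 1 1, .refl 2, .refl 1, .refl 0, .refl 2, .refl 1, .refl 2, .mv1 37 24 45 2 1 38 1 1, .mv0 36 27 38 1 1, .refl 0, .refl 2, .refl 1, .refl 0, .refl 2, .refl 1, .refl 3, .refl 2, .refl 1, .refl 2], [39, 45]),
  ([.refl 1, .refl 2, .refl 1, .refl 0, .refl 3, .refl 2, .refl 1, .refl 0, .refl 2, .mv1 37 24 45 2 1 38 1 1, .mv0 36 27 38 1 1, .refl 0, .refl 2, .refl 1, .refl 0, .refl 2, .refl 1, .refl 3, .refl 2, .refl 1, .refl 2], [39, 45]),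
  ([.refl 1, .refl 2, .refl 1, .refl 2], [39, 45]),
  ([.refl 0, .refl 3, .refl 2, .refl 1, .refl 0, .refl 2, .mv1 37 24 45 2 1 38 1 1, .mv0 36 27 38 1 1, .refl 0, .refl 2, .refl 1, .refl 0, .refl 2, .refl 1, .refl 3, .refl 2, .refl 1, .refl 2], [39, 45]),
  ([.refl 2, .refl 1, .refl 0, .refl 3], [47, 44]),
  ([.refl 1, .refl 2, .refl 1, .refl 2, .refl 3, .refl 2, .refl 1, .refl 0, .mv0 24 30 31 1 1, .refl 0, .refl 1, .refl 2, .refl 1, .refl 3, .refl 2, .refl 1], [39, 45]),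
  ([.refl 2], [39, 45]),
  ([.refl 2, .refl 1, .refl 0], [47, 44]),
  ([.refl 1, .refl 0], [44]),
  ([.refl 1, .refl 3, .refl 2, .refl 1], [39, 45]),
  ([.refl 0, .refl 2, .refl 1, .refl 0, .refl 3, .refl 2, .mv1 37 24 45 2 1 38 1 1, .mv0 36 27 38 1 1, .refl 0, .refl 2, .refl 1, .refl 0, .refl 2, .refl 1, .refl 3, .refl 2, .refl 1, .refl 2], [39, 45]),
  ([.refl 1, .refl 2, .refl 1], [39, 45]),
  ([.refl 0, .refl 2, .refl 3, .refl 2, .refl 1, .refl 0, .refl 2, .mv1 37 24 45 2 1 38 1 1, .mv0 36 27 38 1 1, .refl 0, .refl 2, .refl 1, .refl 0, .refl 2, .refl 1, .refl 3, .refl 2, .refl 1, .refl 2], [39, 45]),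
  ([.refl 1, .refl 0, .refl 2, .refl 3], [47, 44]),
  ([.refl 1, .refl 2, .refl 1, .refl 0, .refl 2, .refl 3, .refl 2, .refl 1, .refl 0, .refl 2, .mv1 37 24 45 2 1 38 1 1, .mv0 36 27 38 1 1, .refl 0, .refl 2, .refl 1, .refl 0, .refl 2, .refl 1, .refl 3, .refl 2, .refl 1, .refl 2], [39, 45]),
  ([], [39, 45]),
  ([.refl 1, .refl 0, .refl 3], [47, 44]),
  ([.refl 1, .refl 0], [47, 44]),
  ([.refl 0], [44]),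
  ([.refl 3, .refl 2, .refl 1], [39, 45]),
  ([.refl 1, .refl 0, .refl 2, .refl 1, .refl 0, .refl 3, .refl 2, .mv1 37 24 45 2 1 38 1 1, .mv0 36 27 38 1 1, .refl 0, .refl 2, .refl 1, .refl 0, .refl 2, .refl 1, .refl 3, .refl 2, .refl 1, .refl 2], [39, 45]),
  ([.refl 2, .refl 1], [39, 45]),
  ([.refl 1, .refl 0, .refl 2, .refl 3, .refl 2, .refl 1, .refl 0, .refl 2, .mv1 37 24 45 2 1 38 1 1, .mv0 36 27 38 1 1, .refl 0, .refl 2, .refl 1, .refl 0, .refl 2, .refl 1, .refl 3, .refl 2, .refl 1, .refl 2], [39, 45]),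
  ([.refl 1], [39, 45]),
  ([.refl 2, .refl 1, .refl 0, .refl 2, .refl 3, .refl 2, .refl 1, .refl 0, .refl 2, .mv1 37 24 45 2 1 38 1 1, .mv0 36 27 38 1 1, .refl 0, .refl 2, .refl 1, .refl 0, .refl 2, .refl 1, .refl 3, .refl 2, .refl 1, .refl 2], [39, 45]),
  ([.refl 0, .refl 2, .refl 3], [47, 44]),
  ([.refl 0, .refl 3], [47, 44]),
  ([.refl 0], [47, 44]),
  ([.refl 3, .refl 2, .refl 1, .refl 2, .refl 3], [47]),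
  ([.refl 0, .refl 1, .refl 3, .refl 2, .refl 1, .refl 0, .mv1 28 24 32 2 1 29 1 1, .refl 0, .refl 1, .refl 2, .refl 1, .refl 0, .refl 2, .refl 1, .refl 2, .refl 3], [47, 44]),
  ([.refl 2, .refl 1, .refl 2, .refl 3], [47]),
  ([.refl 0, .refl 1, .refl 2, .refl 1, .refl 0, .mv1 28 24 32 2 1 29 1 1, .refl 0, .refl 1, .refl 2, .refl 1, .refl 0, .refl 2, .refl 1, .refl 2, .refl 3], [47, 44]),
  ([.refl 1, .refl 2, .refl 3], [47]),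
  ([.refl 0, .refl 1, .refl 2, .refl 1, .refl 0, .refl 2, .mv1 28 24 32 2 1 29 1 1, .refl 0, .refl 1, .refl 2, .refl 1, .refl 0, .refl 2, .refl 1, .refl 2, .refl 3], [47, 44]),
  ([], [44]),
  ([.refl 2, .refl 3], [47, 44]),
  ([.refl 3], [47, 44]),
  ([], [47, 44]),
  ([.refl 2, .refl 3], [47]),
  ([.refl 3], [47]),
  ([], [47])]

/-- The paths as a function. -/
def path (i : ℕ) : List RStep × List ℕ := pathsL.getD i ([], [])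

/-- The representatives. -/
def reps : List (List ℕ) := [[47], [44], [47, 44], [39, 45]]

set_option maxHeartbeats 0 in
theorem paths_ok : ∀ id < 364, (nodes id).O = [] ∨
    ((path id).2 ∈ reps ∧ RunOK chevF4 tt posL (nodes id).O (path id).1 (path id).2) := by decide +kernel

end Cfsg.Agent.Lib.ChevBN.InvNFF4

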