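import Cfsg.Agent.Lib.ChevBN.SylowU
import Cfsg.Agent.Lib.ChevBN.Levi
import Cfsg.Agent.Lib.ChevBN.ConjH
import Cfsg.Agent.Lib.Components.CharP
import Cfsg.Agent.Lib.Components.FStar2

/-!
The centraliser in a proper parabolic subgroup of its unipotent radical lies in the radical; so `F*(P_J)` is a
`p`-group.
-/

set_option autoImplicit false
set_option linter.unusedSectionVars false

namespace Cfsg.Agent.Lib.ChevBN.ParabCent

open Cfsg.Lie Cfsg.Agent.Lib.ChevBN.Elem Cfsg.Agent.Lib.ChevBN.Entries Cfsg.Agent.Lib.ChevBN.Table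
open Cfsg.Agent.Lib.ChevBN.Collect Cfsg.Agent.Lib.ChevBN.Rel Cfsg.Agent.Lib.ChevBN.Torus
open Cfsg.Agent.Lib.ChevBN.Monomial Cfsg.Agent.Lib.ChevBN.Core Cfsg.Agent.Lib.ChevBN.Pair
open Cfsg.Agent.Lib.ChevBN.Stmts Cfsg.Agent.Lib.ChevBN.Opp Cfsg.Agent.Lib.ChevBN.ConjH
open Cfsg.Agent.Lib.ChevBN.Levi
open Cfsg.Agent.Lib.ChevOrder.Chev Cfsg.Agent.Lib.ChevOrder.BNCount Cfsg.Agent.Lib.ChevOrder.Cox
open Cfsg.Agent.Lib.BNPair.CoxeterExchange
open Cfsg.Agent.Lib.BNPair.Basic Cfsg.Agent.Lib.BNPair.Parabolic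

variable {D : ChevalleyDatum} {F : Type*} [Field F] {η : ℕ → ℕ → ℤ}

/-- The tables used. -/
structure LevTab (D : ChevalleyDatum) : Prop where
  hpos : ∃ m : ℕ → ℤ, ∀ s < D.nroots, D.IsPosRoot s → 0 < Ad D m s
  hup : ∀ q < D.rank, ∀ r < D.nroots, D.IsPosRoot r → D.cartan q r < 0 → r < D.reflectRoot q r
  two : ∀ k < D.rank, D.cartan k (D.simple k) = 2
  span : ∀ i < D.rank, ∀ j < D.rank, j ≠ i → ∃ q₁ q₂ : ℕ, D.IsPosRoot q₁ ∧ D.IsPosRoot q₂ ∧
    cr D q₁ i ≠ 0 ∧ cr D q₂ i ≠ 0 ∧ ∀ j' < D.rank, D.cartan j' q₂ = D.cartan j' q₁ + D.cartan j' (D.simple j)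

theorem LevTab.of_tab {D : ChevalleyDatum} {m : ℕ → ℤ} {w : ℕ → ℕ → ℕ × ℕ}
    (h1 : ∀ s < D.nroots, D.IsPosRoot s → 0 < Ad D m s)
    (h2 : ∀ q < D.rank, ∀ r < D.nroots, D.IsPosRoot r → D.cartan q r < 0 → r < D.reflectRoot q r)
    (h3 : ∀ k < D.rank, D.cartan k (D.simple k) = 2)
    (h4 : ∀ i < D.rank, ∀ j < D.rank, j ≠ i → D.IsPosRoot (w i j).1 ∧ D.IsPosRoot (w i j).2 ∧
      cr D (w i j).1 i ≠ 0 ∧ cr D (w i j).2 i ≠ 0 ∧
      ∀ j' < D.rank, D.cartan j' (w i j).2 = D.cartan j' (w i j).1 + D.cartan j' (D.simple j)) :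
    LevTab D :=
  ⟨⟨m, h1⟩, h2, h3, fun i hi j hj hji => ⟨_, _, h4 i hi j hj hji⟩⟩

/-! ### The leading term of a conjugate -/

section Lead

variable {hA : AddRel D F}

theorem above_norm (hc : CommPos hA) (hT : Tbl D) {q : ℕ} {x : GL D.Idx F}
    (hx : x ∈ gen hA {r | D.IsPosRoot r}) : ∀ z ∈ gen hA {s | D.IsPosRoot s ∧ q < s},
      x * z * x⁻¹ ∈ gen hA {s | D.IsPosRoot s ∧ q < s} := by
  refine gen_induction hA (P := fun x => ∀ z ∈ gen hA {s | D.IsPosRoot s ∧ q < s},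
      x * z * x⁻¹ ∈ gen hA {s | D.IsPosRoot s ∧ q < s}) ?_ ?_ ?_ hx
  · intro z hz
    simpa using hz
  · intro r hr t z hz
    by_cases hqr : q < r
    · have h1 : X hA r t ∈ gen hA {s | D.IsPosRoot s ∧ q < s} :=
        X_mem_gen _ (show r ∈ {s | D.IsPosRoot s ∧ q < s} from ⟨hr, hqr⟩) t
      exact Subgroup.mul_mem _ (Subgroup.mul_mem _ h1 hz) (Subgroup.inv_mem _ h1)
    · refine conj_mem_gen' hc hr ?_ ?_ t hz
      · rintro s ⟨hs, hqs⟩
        exact ⟨hs, fun e => hqr (e ▸ hqs)⟩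
      · rintro s ⟨hs, hqs⟩ c hc'
        have hne : r ≠ s := fun e => hqr (e ▸ hqs)
        obtain ⟨_, h2, h3, _⟩ := hT.comm_keys r s hr hs hne c hc'
        exact ⟨h3, lt_trans hqs h2⟩
  · intro a b ha hb z hz
    have e : a * b * z * (a * b)⁻¹ = a * (b * z * b⁻¹) * a⁻¹ := by group
    rw [e]
    exact ha _ (hb z hz)

theorem conj_lead (hc : CommPos hA) (hT : Tbl D) {q : ℕ} (hq : D.IsPosRoot q) {u : GL D.Idx F}
    (hu : u ∈ gen hA {r | D.IsPosRoot r}) (a : F) :
    (X hA q a)⁻¹ * (u * X hA q a * u⁻¹) ∈ gen hA {s | D.IsPosRoot s ∧ q < s} := by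
  revert a
  refine gen_induction hA (P := fun u => u ∈ gen hA {r | D.IsPosRoot r} ∧ ∀ a : F,
    (X hA q a)⁻¹ * (u * X hA q a * u⁻¹) ∈ gen hA {s | D.IsPosRoot s ∧ q < s}) ?_ ?_ ?_ hu |>.2
  · refine ⟨Subgroup.one_mem _, fun a => ?_⟩
    simp
  · intro r hr t
    refine ⟨X_mem_gen _ hr t, fun a => ?_⟩
    by_cases hrq : r = q
    · subst hrq
      have e : (X hA r a)⁻¹ * (X hA r t * X hA r a * (X hA r t)⁻¹) = 1 := by
        rw [X_inv, X_inv, X_mul, X_mul, X_mul, ← X_zero hA r]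
        congr 1
        ring
      rw [e]
      exact Subgroup.one_mem _
    · have h1 := hc r q hr hq (fun e => hrq e.symm) (-t) a
      have h2 : X hA q a * (X hA r t)⁻¹ = (X hA r t)⁻¹ * X hA q a * W hA (D.commWord F r q (-t) a) := by
        rw [X_inv]
        exact h1
      have e : (X hA q a)⁻¹ * (X hA r t * X hA q a * (X hA r t)⁻¹) = W hA (D.commWord F r q (-t) a) := by
        rw [mul_assoc (X hA r t), h2]
        group
      rw [e]
      apply W_mem_gen
      intro p hp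
      rw [ChevalleyDatum.commWord] at hp
      obtain ⟨c, hc', rfl⟩ := List.mem_map.mp hp
      obtain ⟨_, h3, h4, _⟩ := hT.comm_keys r q hr hq hrq c hc'
      exact ⟨h4, h3⟩
  · rintro x y ⟨hx, hx2⟩ ⟨hy, hy2⟩
    refine ⟨Subgroup.mul_mem _ hx hy, fun a => ?_⟩
    have e : (X hA q a)⁻¹ * (x * y * X hA q a * (x * y)⁻¹) =
        ((X hA q a)⁻¹ * (x * X hA q a * x⁻¹)) * (x * ((X hA q a)⁻¹ * (y * X hA q a * y⁻¹)) * x⁻¹) := by
      group
    rw [e]
    exact Subgroup.mul_mem _ (hx2 a) (above_norm hc hT hx _ (hy2 a))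

end Lead

/-! ### Characters of the torus -/

section Chi

variable (c : ℕ → F) (hc : ∀ j < D.rank, c j ≠ 0)
include hc

theorem chi_add {q₁ q₂ s : ℕ} (h : ∀ j' < D.rank, D.cartan j' q₂ = D.cartan j' q₁ + D.cartan j' s) :
    chi D c q₂ = chi D c q₁ * chi D c s := by
  rw [Cfsg.Agent.Lib.ChevBN.Fix.chi_eq_prod, Cfsg.Agent.Lib.ChevBN.Fix.chi_eq_prod,
    Cfsg.Agent.Lib.ChevBN.Fix.chi_eq_prod, ← Finset.prod_mul_distrib]
  apply Finset.prod_congr rfl
  intro j hj
  have hj' := Finset.mem_range.mp hj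
  rw [h j hj', zpow_add₀ (hc j hj')]

theorem chi_reflect (hT : Tbl D) {q r : ℕ} (hq : q < D.rank) (hr : r < D.nroots)
    (h1 : chi D c (D.simple q) = 1) : chi D c (D.reflectRoot q r) = chi D c r := by
  have h2 : chi D c (D.reflectRoot q r) = chi D c r * (chi D c (D.simple q)) ^ (- D.cartan q r) := by
    rw [Cfsg.Agent.Lib.ChevBN.Fix.chi_eq_prod, Cfsg.Agent.Lib.ChevBN.Fix.chi_eq_prod,
      Cfsg.Agent.Lib.ChevBN.Fix.chi_eq_prod, ← Finset.prod_zpow, ← Finset.prod_mul_distrib]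
    apply Finset.prod_congr rfl
    intro j hj
    have hj' := Finset.mem_range.mp hj
    rw [hT.cartan_w j hj' q hq r hr, ← zpow_mul, ← zpow_add₀ (hc j hj')]
    congr 1
    ring
  rw [h2, h1, one_zpow, mul_one]

theorem chi_all (hT : Tbl D) (h : ∀ j < D.rank, chi D c (D.simple j) = 1) {s : ℕ} (hs : s < D.nroots) :
    chi D c s = 1 := by
  have hr := reach_univ hT hs
  induction hr with
  | base _ hl => exact h _ hl
  | step _ hl hr' ih =>
    rw [chi_reflect c hc hT hl (hr'.lt hT) (h _ hl)]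
    exact ih (hr'.lt hT)

end Chi

section Main

variable (hR : Sys D F η) (hT : Tbl D) (hT2 : Tbl2 D)
include hR hT hT2

/-- The centraliser of the radical in the parabolic. -/
def CC (D : ChevalleyDatum) (F : Type*) [Field F] (J : Set ℕ) : Subgroup (GL D.Idx F) :=
  D.parabolicSubgroup F J ⊓ Subgroup.centralizer (D.unipotentRadical F J : Set (GL D.Idx F))

theorem conj_CC {J : Set ℕ} {n c : GL D.Idx F} (hn : n ∈ D.parabolicSubgroup F J) (hc : c ∈ CC D F J) :
    n * c * n⁻¹ ∈ CC D F J := by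
  refine ⟨Subgroup.mul_mem _ (Subgroup.mul_mem _ hn hc.1) (Subgroup.inv_mem _ hn),
    Subgroup.mem_centralizer_iff.mpr ?_⟩
  intro x hx
  have h1 : n⁻¹ * x * n ∈ D.unipotentRadical F J := by
    have h2 := parabolic_le_norm hR hT hT2 J (Subgroup.inv_mem _ hn)
    have h3 := (Subgroup.mem_normalizer_iff.mp h2 x).mp hx
    simpa using h3
  have h4 := Subgroup.mem_centralizer_iff.mp hc.2 _ h1
  calc x * (n * c * n⁻¹) = n * ((n⁻¹ * x * n) * c) * n⁻¹ := by group
    _ = n * (c * (n⁻¹ * x * n)) * n⁻¹ := by rw [h4]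
    _ = _ := by group

/-- If `c = u h` centralises `x_q(a)`, this is the leading term. -/
theorem lead_of_comm {q : ℕ} (hq : D.IsPosRoot q) {u h : GL D.Idx F} (hu : u ∈ D.posUnipotent F)
    (hh : h ∈ D.diagonalSubgroup F) :
    ∃ χ : F, χ ≠ 0 ∧ ∀ a : F, (X hR.toAddRel q (χ * a))⁻¹ * ((u * h) * X hR.toAddRel q a * (u * h)⁻¹) ∈
      gen hR.toAddRel {s | D.IsPosRoot s ∧ q < s} := by
  rw [diagonal_eq hR hT] at hh
  obtain ⟨c₀, hc₀, rfl⟩ := hh
  refine ⟨chi D c₀ q, chi_ne_zero hc₀ q, fun a => ?_⟩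
  have e : (u * hP hR c₀) * X hR.toAddRel q a * (u * hP hR c₀)⁻¹ =
      u * (hP hR c₀ * X hR.toAddRel q a * (hP hR c₀)⁻¹) * u⁻¹ := by group
  rw [e, hP_conj hR hc₀ hq.1]
  rw [posUnipotent_eq hR.toAddRel] at hu
  exact conj_lead (commPos hR) hT hq hu _

/-- A reflection is not in the centraliser modulo `B`. -/
theorem no_reflection {J : Set ℕ} (hLT : LevTab D) {i : ℕ} (hi : i < D.rank) (hiJ : i ∉ J) {k : ℕ}
    (hk : k < D.rank) {b : GL D.Idx F} (hb : b ∈ D.borelSubgroup F)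
    (hc : ∀ x ∈ D.unipotentRadical F J, (b⁻¹ * A hR k) * x = x * (b⁻¹ * A hR k)) : False := by
  obtain ⟨u, hu, h, hh, rfl⟩ := (mem_B_iff hR hT).mp hb
  obtain ⟨χ, hχ, hlead⟩ := lead_of_comm hR hT hT2 (q := D.simple k) (hT.simple_pos k hk) hu hh
  have hconj : ∀ q, D.IsPosRoot q → ¬ D.InRootSub J q → ∀ a : F,
      (u * h) * X hR.toAddRel q a * (u * h)⁻¹ = X hR.toAddRel (D.reflectRoot k q) ((η k q : F) * a) := by
    intro q hq hqJ a
    have hx : X hR.toAddRel q a ∈ D.unipotentRadical F J := by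
      rw [radical_eq hR hT]
      exact X_mem_gen _ (show q ∈ psiJ D J from ⟨hq, hqJ⟩) a
    have h1 := hc _ hx
    have h2 := A_conj_X hR hk hq.1 a
    rw [← h2]
    have h3 : A hR k * X hR.toAddRel q a = (u * h) * X hR.toAddRel q a * (u * h)⁻¹ * A hR k := by
      have h4 : (u * h) * ((u * h)⁻¹ * A hR k * X hR.toAddRel q a) =
          (u * h) * (X hR.toAddRel q a * ((u * h)⁻¹ * A hR k)) := by rw [h1]
      calc A hR k * X hR.toAddRel q a = (u * h) * ((u * h)⁻¹ * A hR k * X hR.toAddRel q a) := by group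
        _ = (u * h) * (X hR.toAddRel q a * ((u * h)⁻¹ * A hR k)) := h4
        _ = _ := by group
    rw [h3]
    group
  by_cases hkJ : k ∈ J
  · -- a root of the radical moved by the reflection
    have hki : k ≠ i := fun e => hiJ (e ▸ hkJ)
    obtain ⟨q₁, q₂, hp₁, hp₂, hc₁, hc₂, hrel⟩ := hLT.span i hi k hk hki
    have hmem : ∀ q, cr D q i ≠ 0 → ¬ D.InRootSub J q := by
      intro q hq hq2
      exact hq (hq2.2 i hi hiJ)
    have hnes : ∀ q, cr D q i ≠ 0 → q ≠ D.simple k := by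
      rintro q hq rfl
      rw [hT.coroot_simple k hk i hi, if_neg hki] at hq
      exact hq rfl
    -- a positive root moved by the reflection
    obtain ⟨q, hqp, hqc, hqne⟩ : ∃ q, D.IsPosRoot q ∧ cr D q i ≠ 0 ∧ D.reflectRoot k q ≠ q := by
      have h2 := hrel k hk
      rw [hLT.two k hk] at h2
      have key : ∀ q, D.IsPosRoot q → D.reflectRoot k q = q → D.cartan k q = 0 := by
        intro q hq he
        have h3 := hT.cartan_w k hk k hk q hq.1
        rw [he, hLT.two k hk] at h3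
        linarith
      by_cases h3 : D.reflectRoot k q₁ = q₁
      · refine ⟨q₂, hp₂, hc₂, fun h4 => ?_⟩
        have h5 := key _ hp₂ h4
        have h6 := key _ hp₁ h3
        omega
      · exact ⟨q₁, hp₁, hc₁, h3⟩
    have hcr : ∀ q, q < D.nroots → cr D (D.reflectRoot k q) i = cr D q i := by
      intro q hq
      rw [hT.coroot_w k hk q hq i hi, if_neg (Ne.symm hki), sub_zero]
    have hstep : ∀ q, D.IsPosRoot q → cr D q i ≠ 0 → q < D.reflectRoot k q → False := by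
      intro q hq hqc hlt
      have h1 := hlead
      obtain ⟨χ', hχ', hl⟩ := lead_of_comm hR hT hT2 (q := q) hq hu hh
      have h2 := hl 1
      rw [hconj q hq (hmem q hqc)] at h2
      have hqp' : D.IsPosRoot (D.reflectRoot k q) := hT.w_pos k hk q hq (hnes q hqc)
      have h3 : X hR.toAddRel (D.reflectRoot k q) ((η k q : F) * 1) ∈
          gen hR.toAddRel {s | D.IsPosRoot s ∧ q < s} :=
        X_mem_gen _ (show D.reflectRoot k q ∈ {s | D.IsPosRoot s ∧ q < s} from ⟨hqp', hlt⟩) _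
      have h4 := Subgroup.mul_mem _ h2 (Subgroup.inv_mem _ h3)
      have e : (X hR.toAddRel q (χ' * 1))⁻¹ * X hR.toAddRel (D.reflectRoot k q) ((η k q : F) * 1) *
          (X hR.toAddRel (D.reflectRoot k q) ((η k q : F) * 1))⁻¹ = X hR.toAddRel q (-(χ' * 1)) := by
        rw [mul_inv_cancel_right, X_inv]
      rw [e] at h4
      have h5 := eq_zero_of_X_mem hT hq h4
      simp at h5
      exact hχ' h5
    have hqp' : D.IsPosRoot (D.reflectRoot k q) := hT.w_pos k hk q hqp (hnes q hqc)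
    rcases lt_or_gt_of_ne hqne with h5 | h5
    · -- `s_k q < q`: use `s_k q`
      refine hstep (D.reflectRoot k q) hqp' (by rw [hcr q hqp.1]; exact hqc) ?_
      rw [hT.w_w k hk q hqp.1]
      exact h5
    · exact hstep q hqp hqc h5
  · -- the fundamental root itself
    have hp := hT.simple_pos k hk
    have h1 := hconj _ hp (not_inRootSub_simple hT hkJ hk) 1
    rw [hT.w_simple k hk] at h1
    refine X_neg_not_mem_B hR hT hp (t := (η k (D.simple k) : F) * 1) ?_ ?_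
    · exact mul_ne_zero (eta_ne hR hk hp.1) one_ne_zero
    · rw [← h1]
      have hb' : u * h ∈ D.borelSubgroup F := hb
      have hx : X hR.toAddRel (D.simple k) 1 ∈ D.borelSubgroup F := U_le_B hR hT (X_mem_U hR hT hp 1)
      exact Subgroup.mul_mem _ (Subgroup.mul_mem _ hb' hx) (Subgroup.inv_mem _ hb')

theorem CC_le_G (J : Set ℕ) : CC D F J ≤ D.group F := by
  rintro c ⟨hc, -⟩
  rw [parabolic_eq hR hT] at hc
  refine (sup_le (B_N_G hR hT).1 (le_trans ?_ (B_N_G hR hT).2.1) : _ ≤ D.group F) hc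
  rw [NJ, Subgroup.closure_le]
  rintro g ⟨j, -, hl, rfl⟩
  exact A_mem_N hR hT hl

/-- Step 1: the centraliser of the radical lies in `B`. -/
theorem CC_le_B {J : Set ℕ} (hLT : LevTab D) {i : ℕ} (hi : i < D.rank) (hiJ : i ∉ J) :
    CC D F J ≤ D.borelSubgroup F := by
  intro c hc
  by_contra hcB
  have hBG := (B_N_G hR hT).1
  have hCG := CC_le_G hR hT hT2 J
  let M : Subgroup ↥(D.group F) := (D.borelSubgroup F ⊔ CC D F J).subgroupOf (D.group F)
  have hBM : (pair hR hT).B ≤ M := by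
    intro b hb
    rw [Subgroup.mem_subgroupOf]
    exact Subgroup.mem_sup_left ((mem_PB hR hT).1 hb)
  have hM := eq_parabolic_of_le hBM
  have hBnorm : D.borelSubgroup F ≤ Subgroup.normalizer (CC D F J : Set (GL D.Idx F)) := by
    intro b hb
    rw [Subgroup.mem_normalizer_iff]
    have hbP : b ∈ D.parabolicSubgroup F J := by
      rw [parabolic_eq hR hT]
      exact Subgroup.mem_sup_left hb
    intro x
    constructor
    · exact fun hx => conj_CC hR hT hT2 hbP hx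
    · intro hx
      have := conj_CC hR hT hT2 (Subgroup.inv_mem _ hbP) hx
      simpa [mul_assoc] using this
  have hcM : (⟨c, hCG hc⟩ : ↥(D.group F)) ∈ M :=
    Subgroup.mem_subgroupOf.mpr (Subgroup.mem_sup_right hc)
  -- there is a reflection in `M`
  obtain ⟨s, hsS, hsM⟩ : ∃ s, s ∈ (pair hR hT).S ∧ s ∈ M := by
    by_contra hno
    push Not at hno
    have hemp : {s | s ∈ (pair hR hT).S ∧ s ∈ M} = ∅ := by
      ext s
      simp only [Set.mem_ofPred_eq, Set.mem_empty_iff_false, iff_false, not_and]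
      exact hno s
    rw [hM, hemp] at hcM
    have h1 : (⟨c, hCG hc⟩ : ↥(D.group F)) ∈ (pair hR hT).B := by
      have h2 : (pair hR hT).parabolic ∅ = (pair hR hT).B := by
        rw [Cfsg.BNPair.parabolic, Subgroup.closure_empty, sup_bot_eq]
      rwa [h2] at hcM
    exact hcB ((mem_PB hR hT).1 h1)
  obtain ⟨k, hk, he⟩ := (mem_PS hR hT).1 hsS
  have h1 : (s : GL D.Idx F) ∈ D.borelSubgroup F ⊔ CC D F J := Subgroup.mem_subgroupOf.mp hsM
  obtain ⟨b, hb, c', hc', e⟩ := Cfsg.Agent.Lib.Components.FStar2.mem_sup_of_le_normalizer hBnorm h1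
  rw [he] at e
  have hc'' : c' = b⁻¹ * A hR k := by
    rw [← e]
    group
  refine no_reflection hR hT hT2 hLT hi hiJ hk hb ?_
  intro x hx
  rw [← hc'']
  exact (Subgroup.mem_centralizer_iff.mp hc'.2 x hx).symm

/-- Step 2: the centraliser of the radical lies in `U`. -/
theorem CC_le_U {J : Set ℕ} (hLT : LevTab D) {i : ℕ} (hi : i < D.rank) (hiJ : i ∉ J) :
    CC D F J ≤ D.posUnipotent F := by
  intro c hc
  obtain ⟨u, hu, h, hh, rfl⟩ := (mem_B_iff hR hT).mp (CC_le_B hR hT hT2 hLT hi hiJ hc)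
  have hh' := hh
  rw [diagonal_eq hR hT] at hh'
  obtain ⟨c₀, hc₀, rfl⟩ := hh'
  have key : ∀ q, D.IsPosRoot q → cr D q i ≠ 0 → chi D c₀ q = 1 := by
    intro q hq hqc
    have hqJ : ¬ D.InRootSub J q := fun h2 => hqc (h2.2 i hi hiJ)
    have hx : X hR.toAddRel q 1 ∈ D.unipotentRadical F J := by
      rw [radical_eq hR hT]
      exact X_mem_gen _ (show q ∈ psiJ D J from ⟨hq, hqJ⟩) 1
    have h1 := (Subgroup.mem_centralizer_iff.mp hc.2 _ hx).symm
    have e : u * (hP hR c₀ * X hR.toAddRel q 1 * (hP hR c₀)⁻¹) * u⁻¹ = X hR.toAddRel q 1 := by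
      have e2 : u * (hP hR c₀ * X hR.toAddRel q 1 * (hP hR c₀)⁻¹) * u⁻¹ =
          (u * hP hR c₀) * X hR.toAddRel q 1 * (u * hP hR c₀)⁻¹ := by group
      rw [e2, h1]
      group
    rw [hP_conj hR hc₀ hq.1] at e
    have hu' := hu
    rw [posUnipotent_eq hR.toAddRel] at hu'
    have h2 := conj_lead (commPos hR) hT hq hu' (chi D c₀ q * 1)
    rw [e, X_inv, X_mul] at h2
    have h3 := eq_zero_of_X_mem hT hq h2
    rw [mul_one] at h3
    linear_combination -h3
  have key2 : ∀ j < D.rank, chi D c₀ (D.simple j) = 1 := by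
    intro j hj
    by_cases hji : j = i
    · subst hji
      apply key _ (hT.simple_pos j hj)
      rw [hT.coroot_simple j hj j hj, if_pos rfl]
      exact one_ne_zero
    · obtain ⟨q₁, q₂, hp₁, hp₂, hc₁, hc₂, hrel⟩ := hLT.span i hi j hj hji
      have h1 := chi_add c₀ hc₀ hrel
      rw [key q₁ hp₁ hc₁, key q₂ hp₂ hc₂, one_mul] at h1
      exact h1.symm
  have h1 : hP hR c₀ = 1 := by
    apply Units.ext
    rw [coe_hP hR hc₀, Units.val_one, ← dgMat_one]
    congr 1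
    funext s
    exact chi_all c₀ hc₀ hT key2 s.isLt
  rw [h1, mul_one]
  exact hu

omit hR hT2 in
theorem Ad_reflect (v : ℕ → ℤ) {q t : ℕ} (hq : q < D.rank) (ht : t < D.nroots) :
    Ad D v (D.reflectRoot q t) = Ad D v t - D.cartan q t * Ad D v (D.simple q) := by
  rw [Ad_eq_sum, Ad_eq_sum, Ad_eq_sum, Finset.mul_sum, ← Finset.sum_sub_distrib]
  apply Finset.sum_congr rfl
  intro j hj
  rw [hT.cartan_w j (Finset.mem_range.mp hj) q hq t ht]
  ring

omit hR hT2 in
theorem Ad_reflect' (v : ℕ → ℤ) {q t : ℕ} (hq : q < D.rank) (ht : t < D.nroots) :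
    Ad D v (D.reflectRoot q t) = Ad D (fun j => v j - if j = q then Ad D v (D.simple q) else 0) t := by
  rw [Ad_reflect hT v hq ht]
  generalize Ad D v (D.simple q) = a
  rw [Ad_eq_sum D v t, Ad_eq_sum D _ t]
  have e : ∀ j ∈ Finset.range D.rank, (v j - if j = q then a else 0) * D.cartan j t =
      v j * D.cartan j t - (if j = q then a * D.cartan q t else 0) := by
    intro j _
    by_cases h : j = q
    · subst h
      simp
      ring
    · simp [h]
  rw [Finset.sum_congr rfl e, Finset.sum_sub_distrib, Finset.sum_ite_eq' (Finset.range D.rank) q,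
    if_pos (Finset.mem_range.mpr hq)]
  ring

omit hR hT2 in
theorem LevTab.hdesc (hLT : LevTab D) {q r : ℕ} (hq : q < D.rank) (hr : D.IsPosRoot r)
    (hlt : D.reflectRoot q r < r) : D.cartan q (D.reflectRoot q r) ≤ 0 := by
  have h1 := hT.cartan_w q hq q hq r hr.1
  rw [hLT.two q hq] at h1
  by_contra hcon
  push Not at hcon
  have h2 := hLT.hup q hq r hr.1 hr (by linarith)
  omega

omit hR hT2 in
/-- A combination negative on the fundamental roots of `J` is negative on the positive roots of `Φ_J`. -/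
theorem neg_on (hLT : LevTab D) {J : Set ℕ} (v : ℕ → ℤ) (h : ∀ j < D.rank, j ∈ J → Ad D v (D.simple j) < 0) :
    ∀ s, D.IsPosRoot s → D.InRootSub J s → Ad D v s < 0 := by
  intro s
  induction s using Nat.strong_induction_on with
  | _ s ih =>
    intro hs hJ
    rcases hT.descent s hs with ⟨k, hk, rfl⟩ | ⟨q, hq, hq1, hq2, hq3, hq4⟩
    · apply h k hk
      by_contra hkJ
      have h1 := hJ.2 k hk hkJ
      change cr D (D.simple k) k = 0 at h1
      rw [hT.coroot_simple k hk k hk, if_pos rfl] at h1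
      exact one_ne_zero h1
    · have hqJ : q ∈ J := by
        by_contra hqJ
        exact hq1 (hJ.2 q hq hqJ)
      have hJ' : D.InRootSub J (D.reflectRoot q s) := by
        refine ⟨hq2.1, fun i hi hiJ => ?_⟩
        by_contra hne
        exact hq4 i hi hne (hJ.2 i hi hiJ)
      have h1 := ih _ hq3 hq2 hJ'
      have h2 := Ad_reflect hT v hq hq2.1
      rw [hT.w_w q hq s hs.1] at h2
      have h3 := LevTab.hdesc hT hLT hq hs hq3
      have h4 := h q hq hqJ
      rw [h2]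
      nlinarith

omit hT2 in
/-- Every element of the Weyl group acts on `Ad`. -/
theorem exists_vec (v : ℕ → ℤ) (l : List (Fin D.rank)) : ∃ v' : ℕ → ℤ, ∀ t : Fin D.nroots,
    Ad D v ((σW hR hT (pr (fW hR hT) l))⁻¹ t).val = Ad D v' t.val := by
  induction l with
  | nil =>
    refine ⟨v, fun t => ?_⟩
    have : pr (fW hR hT) [] = 1 := rfl
    rw [this, map_one]
    rfl
  | cons i l ih =>
    obtain ⟨v₁, hv₁⟩ := ih
    refine ⟨fun j => v₁ j - if j = i.val then Ad D v₁ (D.simple i) else 0, fun t => ?_⟩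
    rw [pr_cons, map_mul, σW_fW, mul_inv_rev, Equiv.Perm.mul_apply, hv₁]
    have h1 : (Tbl.wPerm hT i.2)⁻¹ t = Tbl.wPerm hT i.2 t := by
      rw [Equiv.Perm.inv_eq_iff_eq]
      apply Fin.ext
      show t.val = D.reflectRoot i (D.reflectRoot i t.val)
      rw [hT.w_w i i.2 t.val t.isLt]
    rw [h1]
    show Ad D v₁ (D.reflectRoot i t.val) = _
    exact Ad_reflect' hT v₁ i.2 t.isLt

omit hT2 in
/-- The longest element of `W_J`. -/
theorem exists_long [Finite F] (J : Set ℕ) : ∃ l : List (Fin D.rank), (∀ k ∈ l, k.val ∈ J) ∧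
    ∀ j : Fin D.rank, j.val ∈ J → D.IsNegRoot ((σW hR hT (pr (fW hR hT) l))⁻¹ (alphaR hT j)).val := by
  classical
  let T : Set (WW (pair hR hT)) := {x | ∃ l : List (Fin D.rank), (∀ k ∈ l, k.val ∈ J) ∧ x = pr (fW hR hT) l}
  have : Finite (WW (pair hR hT)) := inferInstance
  have hne : T.Nonempty := ⟨1, [], by simp, rfl⟩
  obtain ⟨x, hxT, hmax⟩ := Set.exists_max_image T (LL (pair hR hT)) (Set.toFinite T) hne
  obtain ⟨l, hl, rfl⟩ := hxT
  refine ⟨l, hl, fun j hj => ?_⟩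
  set x := pr (fW hR hT) l with hx
  have h1 : LL (pair hR hT) (fW hR hT j * x) ≤ LL (pair hR hT) x :=
    hmax _ ⟨j :: l, by
      intro k hk
      rcases List.mem_cons.mp hk with rfl | hk
      · exact hj
      · exact hl k hk, by rw [pr_cons]⟩
  have h2 := len_f_mul_lt_or (setupW hR hT) j x
  have h3 : LL (pair hR hT) (fW hR hT j * x) + 1 = LL (pair hR hT) x := by omega
  have hsq : fW hR hT j * (fW hR hT j * x) = x := by
    rw [← mul_assoc, (setupW hR hT).sq, one_mul]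
  have h4 := pos_of_len hR hT j (fW hR hT j * x) (by rw [hsq]; omega)
  rw [map_mul, σW_fW, mul_inv_rev, Equiv.Perm.mul_apply] at h4
  have h5 : (Tbl.wPerm hT j.2)⁻¹ (alphaR hT j) = negF hT (alphaR hT j) := by
    rw [Equiv.Perm.inv_eq_iff_eq]
    apply Fin.ext
    show D.simple j = D.reflectRoot j (D.neg (D.simple j))
    rw [hT.w_neg j j.2 _ (hT.simple_lt j.2), hT.w_simple j j.2, hT.neg_neg _ (hT.simple_lt j.2)]
  rw [h5, σW_inv_neg] at h4
  set y := (σW hR hT x)⁻¹ (alphaR hT j) with hy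
  rcases hT.pos_or_neg y.isLt with h6 | h6
  · exact absurd (hT.neg_of_pos h6) (fun h7 => hT.not_pos_of_neg h7 h4)
  · exact h6

/-- The word `n` sending the positive roots of `Φ_J` to negative roots. -/
theorem exists_n [Finite F] (hLT : LevTab D) (J : Set ℕ) : ∃ n : GL D.Idx F, n ∈ D.parabolicSubgroup F J ∧
    n ∈ D.monomialSubgroup F ∧ ∀ s, D.IsPosRoot s → D.InRootSub J s → ∀ t : F, n * X hR.toAddRel s t * n⁻¹ ∈
      D.negUnipotent F := by
  obtain ⟨l, hl, hneg⟩ := exists_long hR hT J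
  obtain ⟨m, hm₀⟩ := hLT.hpos
  obtain ⟨v, hv⟩ := exists_vec hR hT m l
  have hAd : ∀ j < D.rank, j ∈ J → Ad D v (D.simple j) < 0 := by
    intro j hj hjJ
    have h1 := hv (alphaR hT ⟨j, hj⟩)
    have h2 := hneg ⟨j, hj⟩ hjJ
    set r := (σW hR hT (pr (fW hR hT) l))⁻¹ (alphaR hT ⟨j, hj⟩) with hr
    have h3 := hm₀ _ (hT.neg_lt r.isLt) (hT.pos_of_neg h2)
    have h4 : Ad D m (D.neg r.val) = - Ad D m r.val := by
      rw [Ad_eq_sum, Ad_eq_sum, ← Finset.sum_neg_distrib]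
      apply Finset.sum_congr rfl
      intro i hi
      rw [hT.cartan_neg i (Finset.mem_range.mp hi) r.val r.isLt]
      ring
    have h5 : Ad D v (D.simple j) = Ad D m r.val := h1.symm
    rw [h5]
    omega
  have hlow := neg_on hT hLT v hAd
  set n₀ : ↥(pair hR hT).N := (⟨nL hR hT l, nL_mem hR hT l⟩ : (pair hR hT).N)⁻¹ with hn₀
  set n : GL D.Idx F := ((n₀ : ↥(D.group F)) : GL D.Idx F) with hn
  have hn1 : n = ((nL hR hT l : ↥(D.group F)) : GL D.Idx F)⁻¹ := rfl
  have hnN : n ∈ D.monomialSubgroup F := (mem_PN hR hT).1 n₀.2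
  have hnP : ((nL hR hT l : ↥(D.group F)) : GL D.Idx F) ∈ D.parabolicSubgroup F J := by
    clear hneg hv hn₀ hn hn1 hnN n n₀ hlow hAd
    induction l with
    | nil => exact Subgroup.one_mem _
    | cons i l ih =>
      have e : ((nL hR hT (i :: l) : ↥(D.group F)) : GL D.Idx F) =
          A hR i * ((nL hR hT l : ↥(D.group F)) : GL D.Idx F) := rfl
      rw [e]
      refine Subgroup.mul_mem _ ?_ (ih fun k hk => hl k (List.mem_cons_of_mem _ hk))
      rw [parabolic_eq hR hT]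
      exact Subgroup.mem_sup_right (A_mem_NJ hR (hl i (by simp)) i.2)
  refine ⟨n, by rw [hn1]; exact Subgroup.inv_mem _ hnP, hnN, ?_⟩
  intro s hs hsJ t
  have hm := mem_mono_of_N hR hT hnN
  obtain ⟨κ, _, h1⟩ := conj_of_mem_N hR hT hnN hm ⟨s, hs.1⟩
  rw [h1 t]
  have hσ : permOf (⟨n, hm⟩ : monoSub D F) ⟨s, hs.1⟩ =
      (σW hR hT (pr (fW hR hT) l))⁻¹ ⟨s, hs.1⟩ := by
    rw [pr_fW, ← map_inv, ← QuotientGroup.mk_inv, σW_mk]
    rfl
  rw [hσ, negUnipotent_eq hR.toAddRel]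
  refine X_mem_gen _ ?_ _
  set r := (σW hR hT (pr (fW hR hT) l))⁻¹ ⟨s, hs.1⟩ with hr
  rcases hT.pos_or_neg r.isLt with h2 | h2
  · exfalso
    have h3 := hm₀ _ r.isLt h2
    have h4 := hlow s hs hsJ
    rw [← show Ad D m r.val = Ad D v s from hv ⟨s, hs.1⟩] at h4
    omega
  · exact h2

/-- The main theorem: `C_{P_J}(U_J) ≤ U_J`. -/
theorem CC_le_radical [Finite F] {J : Set ℕ} (hLT : LevTab D) {i : ℕ} (hi : i < D.rank) (hiJ : i ∉ J) :
    CC D F J ≤ D.unipotentRadical F J := by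
  intro c hc
  have hcU := CC_le_U hR hT hT2 hLT hi hiJ hc
  obtain ⟨n, hnP, hnN, hneg⟩ := exists_n hR hT hT2 hLT J
  -- decompose `c`
  have hUP : D.posUnipotent F ≤ D.parabolicSubgroup F J := U_le_parabolic hR hT J
  have hLle : gen hR.toAddRel {s | D.IsPosRoot s ∧ D.InRootSub J s} ≤
      Subgroup.normalizer (D.unipotentRadical F J : Set (GL D.Idx F)) := by
    refine le_trans ?_ (parabolic_le_norm hR hT hT2 J)
    refine le_trans ?_ hUP
    rw [posUnipotent_eq hR.toAddRel]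
    exact gen_mono _ fun s hs => hs.1
  have hUle : D.posUnipotent F ≤ gen hR.toAddRel {s | D.IsPosRoot s ∧ D.InRootSub J s} ⊔ D.unipotentRadical F J := by
    rw [posUnipotent_eq hR.toAddRel]
    refine gen_le _ ?_
    intro r hr t
    by_cases hrJ : D.InRootSub J r
    · exact Subgroup.mem_sup_left (X_mem_gen _ (show r ∈ {s | D.IsPosRoot s ∧ D.InRootSub J s} from ⟨hr, hrJ⟩) t)
    · refine Subgroup.mem_sup_right ?_
      rw [radical_eq hR hT]
      exact X_mem_gen _ (show r ∈ psiJ D J from ⟨hr, hrJ⟩) t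
  obtain ⟨uL, huL, q, hq, rfl⟩ := Cfsg.Agent.Lib.Components.FStar2.mem_sup_of_le_normalizer hLle (hUle hcU)
  have h1 : n * uL * n⁻¹ ∈ D.negUnipotent F := by
    refine gen_induction hR.toAddRel (P := fun g => n * g * n⁻¹ ∈ D.negUnipotent F) (by simp) ?_ ?_ huL
    · rintro r ⟨hr, hrJ⟩ t
      exact hneg r hr hrJ t
    · intro a b ha hb
      have e : n * (a * b) * n⁻¹ = (n * a * n⁻¹) * (n * b * n⁻¹) := by group
      rw [e]
      exact Subgroup.mul_mem _ ha hb
  have h2 : n * (uL * q) * n⁻¹ ∈ D.posUnipotent F := CC_le_U hR hT hT2 hLT hi hiJ (conj_CC hR hT hT2 hnP hc)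
  have h3 : n * q * n⁻¹ ∈ D.posUnipotent F := by
    have h4 := parabolic_le_norm hR hT hT2 J hnP
    have h5 := (Subgroup.mem_normalizer_iff.mp h4 q).mp hq
    exact radical_le_U hR hT J h5
  have h4 : n * uL * n⁻¹ ∈ D.posUnipotent F := by
    have e : n * uL * n⁻¹ = (n * (uL * q) * n⁻¹) * (n * q * n⁻¹)⁻¹ := by group
    rw [e]
    exact Subgroup.mul_mem _ h2 (Subgroup.inv_mem _ h3)
  have h5 : n * uL * n⁻¹ ∈ D.borelSubgroup F ⊓ D.negUnipotent F := ⟨U_le_B hR hT h4, h1⟩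
  rw [B_inf_V hR hT, Subgroup.mem_bot] at h5
  have h6 : uL = 1 := by
    have e : uL = n⁻¹ * (n * uL * n⁻¹) * n := by group
    rw [e, h5]
    group
  rw [h6, one_mul]
  exact hq

/-- `F*(P_J)` is a `p`-group. -/
theorem fstar_parabolic [Fintype F] (p : ℕ) [hp : Fact p.Prime] [CharP F p] {J : Set ℕ} (hLT : LevTab D) {i : ℕ}
    (hi : i < D.rank) (hiJ : i ∉ J) :
    IsPGroup p ↥(Cfsg.generalizedFittingSubgroup ↥(D.parabolicSubgroup F J)) := by
  classical
  have : Finite ↥(D.parabolicSubgroup F J) := inferInstance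
  rw [Cfsg.Agent.Lib.Components.CharP.isPGroup_Fstar_iff_centralizer_le p]
  set P := D.parabolicSubgroup F J with hP
  let Q : Subgroup ↥P := (D.unipotentRadical F J).subgroupOf P
  have hQN : Q.Normal := by
    constructor
    intro x hx g
    rw [Subgroup.mem_subgroupOf] at hx ⊢
    have h1 := parabolic_le_norm hR hT hT2 J g.2
    have h2 := (Subgroup.mem_normalizer_iff.mp h1 _).mp hx
    simpa using h2
  have hQp : IsPGroup p Q := by
    intro x
    have hxU : ((x : ↥P) : GL D.Idx F) ∈ D.posUnipotent F := radical_le_U hR hT J (Subgroup.mem_subgroupOf.mp x.2)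
    have hxG : ((x : ↥P) : GL D.Idx F) ∈ D.group F := U_le_G hR hT hxU
    obtain ⟨k, hk⟩ := Cfsg.Agent.Lib.ChevBN.SylowU.isPGroup_U hR hT p
      ⟨⟨((x : ↥P) : GL D.Idx F), hxG⟩, Subgroup.mem_subgroupOf.mpr hxU⟩
    refine ⟨k, ?_⟩
    apply Subtype.ext
    apply Subtype.ext
    have h1 := congrArg (fun y => (((y : ↥((D.posUnipotent F).subgroupOf (D.group F))) : ↥(D.group F)) : GL D.Idx F)) hk
    simpa using h1
  have hQle : Q ≤ Cfsg.pCore p ↥P := Cfsg.Agent.Lib.Nilpotent.Fitting.le_pCore hQp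
  intro x hx
  have h1 : (x : GL D.Idx F) ∈ CC D F J := by
    refine ⟨x.2, Subgroup.mem_centralizer_iff.mpr ?_⟩
    intro y hy
    have hyP : y ∈ P := by
      have := radical_le_U hR hT J hy
      exact U_le_parabolic hR hT J this
    have hyQ : (⟨y, hyP⟩ : ↥P) ∈ Q := Subgroup.mem_subgroupOf.mpr hy
    have h2 := Subgroup.mem_centralizer_iff.mp hx _ (hQle hyQ)
    have h3 := congrArg (fun z : ↥P => (z : GL D.Idx F)) h2
    exact h3
  exact hQle (Subgroup.mem_subgroupOf.mpr (CC_le_radical hR hT hT2 hLT hi hiJ h1))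

end Main

end Cfsg.Agent.Lib.ChevBN.ParabCent
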