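import Cfsg.Agent.Lib.ChevBN.ParabCent

/-! The tables for the centraliser of the radical of a parabolic subgroup. -/

set_option autoImplicit false

namespace Cfsg.Agent.Lib.ChevBN.ParabTab

open Cfsg.Lie Cfsg.Agent.Lib.ChevBN.ParabCent

set_option maxHeartbeats 0 in
theorem levG2 : LevTab chevG2 :=
  LevTab.of_tab (m := fun j => ([6, 10] : List ℤ).getD j 0)
    (w := fun i j => ([[(0, 0), (7, 8)], [(6, 8), (0, 0)]] : List (List (ℕ × ℕ))).getD i [] |>.getD j (0, 0))
    (by decide +kernel) (by decide +kernel) (by decide +kernel) (by decide +kernel)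

set_option maxHeartbeats 0 in
theorem levB2 : LevTab chevB2 :=
  LevTab.of_tab (m := fun j => ([3, 4] : List ℤ).getD j 0)
    (w := fun i j => ([[(0, 0), (5, 6)], [(4, 6), (0, 0)]] : List (List (ℕ × ℕ))).getD i [] |>.getD j (0, 0))
    (by decide +kernel) (by decide +kernel) (by decide +kernel) (by decide +kernel)

set_option maxHeartbeats 0 in
theorem levD4 : LevTab chevD4 :=
  LevTab.of_tab (m := fun j => ([6, 10, 6, 6] : List ℤ).getD j 0)
    (w := fun i j => ([[(0, 0), (18, 19), (19, 21), (19, 20)], [(14, 19), (0, 0), (14, 16), (14, 15)], [(16, 21), (13, 16), (0, 0), (16, 17)], [(15, 20), (12, 15), (15, 17), (0, 0)]] : List (List (ℕ × ℕ))).getD i [] |>.getD j (0, 0))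
    (by decide +kernel) (by decide +kernel) (by decide +kernel) (by decide +kernel)

set_option maxHeartbeats 0 in
theorem levF4 : LevTab chevF4 :=
  LevTab.of_tab (m := fun j => ([16, 30, 42, 22] : List ℤ).getD j 0)
    (w := fun i j => ([[(0, 0), (33, 34), (34, 35), (35, 36)], [(27, 34), (0, 0), (27, 28), (28, 29)], [(28, 35), (25, 28), (0, 0), (25, 26)], [(29, 36), (26, 29), (24, 26), (0, 0)]] : List (List (ℕ × ℕ))).getD i [] |>.getD j (0, 0))
    (by decide +kernel) (by decide +kernel) (by decide +kernel) (by decide +kernel)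

set_option maxHeartbeats 0 in
theorem levE6 : LevTab chevE6 :=
  LevTab.of_tab (m := fun j => ([16, 22, 30, 42, 30, 16] : List ℤ).getD j 0)
    (w := fun i j => ([[(0, 0), (58, 61), (56, 57), (57, 58), (58, 59), (59, 60)], [(50, 61), (0, 0), (47, 50), (46, 47), (47, 48), (48, 49)], [(42, 57), (43, 50), (0, 0), (42, 43), (43, 44), (44, 45)], [(43, 58), (39, 47), (39, 43), (0, 0), (39, 40), (40, 41)], [(44, 59), (40, 48), (40, 44), (37, 40), (0, 0), (37, 38)], [(45, 60), (41, 49), (41, 45), (38, 41), (36, 38), (0, 0)]] : List (List (ℕ × ℕ))).getD i [] |>.getD j (0, 0))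
    (by decide +kernel) (by decide +kernel) (by decide +kernel) (by decide +kernel)

set_option maxHeartbeats 0 in
theorem levE7 : LevTab chevE7 :=
  LevTab.of_tab (m := fun j => ([34, 49, 66, 96, 75, 52, 27] : List ℤ).getD j 0)
    (w := fun i j => ([[(0, 0), (95, 99), (93, 94), (94, 95), (95, 96), (96, 97), (97, 98)], [(83, 99), (0, 0), (79, 83), (78, 79), (79, 80), (80, 81), (81, 82)], [(73, 94), (74, 83), (0, 0), (73, 74), (74, 75), (75, 76), (76, 77)], [(74, 95), (69, 79), (69, 74), (0, 0), (69, 70), (70, 71), (71, 72)], [(75, 96), (70, 80), (70, 75), (66, 70), (0, 0), (66, 67), (67, 68)], [(76, 97), (71, 81), (71, 76), (67, 71), (64, 67), (0, 0), (64, 65)], [(77, 98), (72, 82), (72, 77), (68, 72), (65, 68), (63, 65), (0, 0)]] : List (List (ℕ × ℕ))).getD i [] |>.getD j (0, 0))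
    (by decide +kernel) (by decide +kernel) (by decide +kernel) (by decide +kernel)

set_option maxHeartbeats 0 in
theorem levE8 : LevTab chevE8 :=
  LevTab.of_tab (m := fun j => ([92, 136, 182, 270, 220, 168, 114, 58] : List ℤ).getD j 0)
    (w := fun i j => ([[(0, 0), (164, 169), (162, 163), (163, 164), (164, 165), (165, 166), (166, 167), (167, 168)], [(147, 169), (0, 0), (142, 147), (141, 142), (142, 143), (143, 144), (144, 145), (145, 146)], [(135, 163), (136, 147), (0, 0), (135, 136), (136, 137), (137, 138), (138, 139), (139, 140)], [(136, 164), (130, 142), (130, 136), (0, 0), (130, 131), (131, 132), (132, 133), (133, 134)], [(137, 165), (131, 143), (131, 137), (126, 131), (0, 0), (126, 127), (127, 128), (128, 129)], [(138, 166), (132, 144), (132, 138), (127, 132), (123, 127), (0, 0), (123, 124), (124, 125)], [(139, 167), (133, 145), (133, 139), (128, 133), (124, 128), (121, 124), (0, 0), (121, 122)], [(140, 168), (134, 146), (134, 140), (129, 134), (125, 129), (122, 125), (120, 122), (0, 0)]] : List (List (ℕ ×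 ℕ))).getD i [] |>.getD j (0, 0))
    (by decide +kernel) (by decide +kernel) (by decide +kernel) (by decide +kernel)

theorem lev_of_mem {D : ChevalleyDatum}
    (hD : D ∈ [chevG2, chevB2, chevD4, chevF4, chevE6, chevE7, chevE8]) : LevTab D := by
  simp only [List.mem_cons, List.not_mem_nil, or_false] at hD
  rcases hD with rfl | rfl | rfl | rfl | rfl | rfl | rfl
  · exact levG2
  · exact levB2
  · exact levD4
  · exact levF4
  · exact levE6
  · exact levE7
  · exact levE8

end Cfsg.Agent.Lib.ChevBN.ParabTab
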